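import Mathlib
import Cfsg.Prelude.Def_KGroupFacts
import Cfsg.Agent.SmallSimple.Embed

/-!
# `|Out X|` against the indices of proper subgroups of `X`

`Bd X`: `2 ^ |Out X| ≤ |X : H| ^ 3` for every proper subgroup `H`.
-/

set_option autoImplicit false

namespace Cfsg.Agent.H934.OutB

universe u v

/-- `2 ^ |Out X| ≤ |X : H| ^ 3` for every proper subgroup. -/
def Bd (X : Type u) [Group X] : Prop := ∀ H : Subgroup X, H ≠ ⊤ → 2 ^ Nat.card (Cfsg.Out X) ≤ H.index ^ 3

theorem card_out_congr {X : Type u} {Y : Type v} [Group X] [Group Y] (e : X ≃* Y) :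
    Nat.card (Cfsg.Out X) = Nat.card (Cfsg.Out Y) := by
  show (MulAut.conj : X →* MulAut X).range.index = (MulAut.conj : Y →* MulAut Y).range.index
  have h1 : (MulAut.conj : X →* MulAut X).range.map (MulAut.congr e).toMonoidHom =
      (MulAut.conj : Y →* MulAut Y).range := by
    ext φ
    constructor
    · rintro ⟨_, ⟨g, rfl⟩, rfl⟩
      refine ⟨e g, ?_⟩
      ext y
      show e g * y * (e g)⁻¹ = e (g * e.symm y * g⁻¹)
      simp
    · rintro ⟨g, rfl⟩
      refine ⟨MulAut.conj (e.symm g), ⟨_, rfl⟩, ?_⟩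
      ext y
      show e (e.symm g * e.symm y * (e.symm g)⁻¹) = g * y * g⁻¹
      simp
  rw [← h1]
  exact (Subgroup.index_map_equiv _ (MulAut.congr e)).symm

theorem Bd.congr {X : Type u} {Y : Type v} [Group X] [Group Y] (h : Bd X) (e : X ≃* Y) : Bd Y := by
  intro H hH
  rw [← card_out_congr e]
  have h1 := h (H.comap e.toMonoidHom) (by
    intro h0
    apply hH
    rw [eq_top_iff]
    intro y _
    have h2 : e.symm y ∈ H.comap e.toMonoidHom := by rw [h0]; exact Subgroup.mem_top _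
    have h3 : e (e.symm y) ∈ H := h2
    rwa [e.apply_symm_apply] at h3)
  rwa [Subgroup.index_comap_of_surjective H (f := e.toMonoidHom) e.surjective] at h1

theorem card_out_mul (X : Type u) [Group X] [Finite X] [IsSimpleGroup X] (hna : ¬ IsMulCommutative X) :
    Nat.card (Cfsg.Out X) * Nat.card X = Nat.card (MulAut X) := by
  have hinj : Function.Injective (MulAut.conj : X →* MulAut X) := by
    rw [← MonoidHom.ker_eq_bot_iff]
    rcases IsSimpleGroup.eq_bot_or_eq_top_of_normal (MulAut.conj : X →* MulAut X).ker inferInstance with h | h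
    · exact h
    · exfalso
      apply hna
      refine ⟨⟨fun a b => ?_⟩⟩
      have h1 : a ∈ (MulAut.conj : X →* MulAut X).ker := by rw [h]; exact Subgroup.mem_top _
      have h2 := DFunLike.congr_fun ((MonoidHom.mem_ker).1 h1) b
      rw [MulAut.conj_apply, MulAut.one_apply] at h2
      exact mul_inv_eq_iff_eq_mul.1 h2
  have h1 : Nat.card (MulAut.conj : X →* MulAut X).range = Nat.card X :=
    Nat.card_congr ((MulAut.conj : X →* MulAut X).ofInjective hinj).toEquiv.symm
  have h2 := (MulAut.conj : X →* MulAut X).range.index_mul_card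
  rwa [h1] at h2

/-- From the order of the automorphism group. -/
theorem card_out_of_aut {X : Type u} [Group X] [Finite X] [IsSimpleGroup X] (hna : ¬ IsMulCommutative X) {n : ℕ}
    (h : Nat.card (MulAut X) = n * Nat.card X) : Nat.card (Cfsg.Out X) = n := by
  rw [← card_out_mul X hna] at h
  exact Nat.eq_of_mul_eq_mul_right Nat.card_pos h

theorem Bd.of_le_six {X : Type u} [Group X] [Finite X] [IsSimpleGroup X] (hna : ¬ IsMulCommutative X)
    (h : Nat.card (Cfsg.Out X) ≤ 6) : Bd X := by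
  intro H hH
  have h5 : 5 ≤ H.index := Cfsg.Agent.SmallSimple.Embed.five_le_index hna H hH
  calc 2 ^ Nat.card (Cfsg.Out X) ≤ 2 ^ 6 := Nat.pow_le_pow_right (by norm_num) h
    _ ≤ 5 ^ 3 := by norm_num
    _ ≤ _ := Nat.pow_le_pow_left h5 3

/-- `|Out X| ≤ N f`, indices at least `M ^ f`, `2 ^ N ≤ M ^ 3`. -/
theorem Bd.of_pow {X : Type u} [Group X] {N M f : ℕ} (h1 : Nat.card (Cfsg.Out X) ≤ N * f)
    (h2 : ∀ H : Subgroup X, H ≠ ⊤ → M ^ f ≤ H.index) (h3 : 2 ^ N ≤ M ^ 3) : Bd X := by
  intro H hH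
  calc 2 ^ Nat.card (Cfsg.Out X) ≤ 2 ^ (N * f) := Nat.pow_le_pow_right (by norm_num) h1
    _ = (2 ^ N) ^ f := pow_mul _ _ _
    _ ≤ (M ^ 3) ^ f := Nat.pow_le_pow_left h3 f
    _ = (M ^ f) ^ 3 := by rw [← pow_mul, ← pow_mul, mul_comm]
    _ ≤ _ := Nat.pow_le_pow_left (h2 H hH) 3

end Cfsg.Agent.H934.OutB
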