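import Mathlib
import Cfsg.Agent.H934.Burn

/-!
# Root groups with the square torus

`card_le_two_mul`: a one-parameter subgroup `x : F → P` over a finite field, with `x t` conjugate to `x (c² t)` for all
`c ≠ 0`, acting non-trivially on `Ω`: `|F| ≤ 2 |Ω|`.
-/

set_option autoImplicit false

namespace Cfsg.Agent.H934.BurnSq

open MulAction Cfsg.Agent.H934.Burn

variable {P F : Type*} [Group P] [Field F] [Fintype F] {Ω : Type*} [MulAction P Ω] [Finite Ω]

theorem sum_fx_eq (x : F → P) (hadd : ∀ s t, x (s + t) = x s * x t) :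
    ∃ r : ℕ, ∑ t : F, fx Ω (x t) = r * Fintype.card F := by
  classical
  have := Fintype.ofFinite Ω
  have h0 : x 0 = 1 := by
    have h := hadd 0 0
    rw [add_zero] at h
    exact mul_right_cancel (b := x 0) (by rw [← h, one_mul])
  let f : Multiplicative F →* P :=
    { toFun := fun t => x t.toAdd
      map_one' := h0
      map_mul' := fun s t => hadd _ _ }
  letI : MulAction (Multiplicative F) Ω := MulAction.compHom Ω f
  have h := MulAction.sum_card_fixedBy_eq_card_orbits_mul_card_group (Multiplicative F) Ω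
  rw [Fintype.card_multiplicative] at h
  refine ⟨_, Eq.trans ?_ h⟩
  rw [← Equiv.sum_comp Multiplicative.ofAdd]
  refine Finset.sum_congr rfl fun t _ => ?_
  rw [← Nat.card_eq_fintype_card]
  rfl

theorem card_le_two_mul (x : F → P) (hadd : ∀ s t, x (s + t) = x s * x t)
    (hconj : ∀ c : F, c ≠ 0 → ∀ t, ∃ h : P, h * x t * h⁻¹ = x (c ^ 2 * t))
    (hne : ∃ t, ∃ ω : Ω, x t • ω ≠ ω) : Fintype.card F ≤ 2 * Nat.card Ω := by
  classical
  have h0 : x 0 = 1 := by
    have h := hadd 0 0
    rw [add_zero] at h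
    exact mul_right_cancel (b := x 0) (by rw [← h, one_mul])
  obtain ⟨r, hr⟩ := sum_fx_eq (Ω := Ω) x hadd
  have hsq : ∀ c : F, c ≠ 0 → ∀ t, fx Ω (x (c ^ 2 * t)) = fx Ω (x t) := by
    intro c hc t
    obtain ⟨h, hh⟩ := hconj c hc t
    rw [← hh, fx_conj]
  have hsq1 : ∀ a b : F, a ≠ 0 → b ≠ 0 → IsSquare (a * b) → fx Ω (x a) = fx Ω (x b) := by
    rintro a b ha hb ⟨c, hc⟩
    have h1 : a = (c / b) ^ 2 * b := by
      field_simp
      rw [hc, pow_two]
    have hc0 : c ≠ 0 := by
      rintro rfl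
      rw [mul_zero, mul_eq_zero] at hc
      tauto
    rw [h1]
    exact hsq _ (div_ne_zero hc0 hb) b
  -- a second value
  obtain ⟨ν, hν0, hν⟩ : ∃ ν : F, ν ≠ 0 ∧ ∀ t : F, t ≠ 0 → fx Ω (x t) + fx Ω (x (ν * t)) = fx Ω (x 1) + fx Ω (x ν) := by
    by_cases hall : ∀ a : F, IsSquare a
    · refine ⟨1, one_ne_zero, fun t ht => ?_⟩
      rw [one_mul, hsq1 t 1 ht one_ne_zero (hall _)]
    · push Not at hall
      obtain ⟨ν, hν⟩ := hall
      have hν0 : ν ≠ 0 := by
        rintro rfl
        exact hν ⟨0, by simp⟩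
      refine ⟨ν, hν0, fun t ht => ?_⟩
      by_cases ht2 : IsSquare t
      · rw [hsq1 t 1 ht one_ne_zero (by rwa [mul_one]), hsq1 (ν * t) ν (mul_ne_zero hν0 ht) hν0 (by
          obtain ⟨s, rfl⟩ := ht2
          exact ⟨ν * s, by ring⟩)]
      · have h2 : IsSquare (ν * t) := by
          rw [← quadraticChar_one_iff_isSquare (mul_ne_zero hν0 ht), map_mul,
            quadraticChar_neg_one_iff_not_isSquare.2 hν, quadraticChar_neg_one_iff_not_isSquare.2 ht2]
          norm_num
        rw [hsq1 t ν ht hν0 (by rwa [mul_comm]), hsq1 (ν * t) 1 (mul_ne_zero hν0 ht) one_ne_zero (by rwa [mul_one]),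
          add_comm]
  have hN : fx Ω (x 0) = Nat.card Ω := by rw [h0, fx_one]
  -- sum of the nontrivial values
  have hsum2 : ∑ t : F, fx Ω (x (ν * t)) = ∑ t : F, fx Ω (x t) :=
    Equiv.sum_comp (Equiv.mulLeft₀ ν hν0) (fun t => fx Ω (x t))
  have h1 : ∑ t : F, (fx Ω (x t) + fx Ω (x (ν * t))) =
      2 * Nat.card Ω + (Fintype.card F - 1) * (fx Ω (x 1) + fx Ω (x ν)) := by
    rw [← Finset.add_sum_erase Finset.univ _ (Finset.mem_univ (0 : F)), mul_zero, hN,
      Finset.sum_congr rfl fun t ht => hν t (Finset.ne_of_mem_erase ht), Finset.sum_const,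
      Finset.card_erase_of_mem (Finset.mem_univ _), Finset.card_univ, smul_eq_mul]
    ring
  rw [Finset.sum_add_distrib, hsum2, hr] at h1
  set s := fx Ω (x 1) + fx Ω (x ν) with hs
  have hlt : s < 2 * Nat.card Ω := by
    by_contra hcon
    push Not at hcon
    have ha := fx_le (Ω := Ω) (x 1)
    have hb := fx_le (Ω := Ω) (x ν)
    obtain ⟨t, ω, hω⟩ := hne
    have hlt := fx_lt (Ω := Ω) ⟨ω, hω⟩
    have ht0 : t ≠ 0 := by
      rintro rfl
      rw [h0, one_smul] at hω
      exact hω rfl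
    have h2 := hν t ht0
    have h3 := fx_le (Ω := Ω) (x (ν * t))
    omega
  have hq : 1 ≤ Fintype.card F := Fintype.card_pos
  set q := Fintype.card F with hqd
  -- `2 r q = 2 N + (q - 1) s`
  have h4 : 2 * r * q + s = 2 * Nat.card Ω + q * s := by
    have : (q - 1) * s + s = q * s := by
      rw [← Nat.succ_mul, Nat.succ_eq_add_one, Nat.sub_add_cancel hq]
    nlinarith
  have h5 : s < 2 * r := by
    by_contra hcon
    push Not at hcon
    have : 2 * r * q ≤ q * s := by
      rw [mul_comm]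
      exact Nat.mul_le_mul_left _ hcon
    omega
  have h6 : (s + 1) * q ≤ 2 * r * q := Nat.mul_le_mul_right _ h5
  have h7 : (s + 1) * q = q * s + q := by ring
  omega

end Cfsg.Agent.H934.BurnSq
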