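import Mathlib
import Cfsg.Agent.H934.Burn

/-!
# Permutation representations of groups with a special normal subgroup

`Z ≤ Q` subgroups of the finite group `P`, `Z` central in `P`, `Q` normal, `[x, Q] = Z` for all `x ∈ Q ∖ Z`. Suppose
that all nonidentity elements of `Z` have `c` fixed points on `Ω`, `c < |Ω|`. Then `(|Ω| - c)² ≥ |Z| |Q|` (`sq_le`);
if every proper subgroup of `P` containing `Q` has index at least `m` and there are no normal subgroups of `P` strictly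
between `Z` and `Q`, then `|Ω| - c ≥ |Q|` or `(|Ω| - c)² ≥ m² |Z| |Q|` (`amp`).
-/

set_option autoImplicit false

namespace Cfsg.Agent.H934.Heis

open MulAction Cfsg.Agent.H934.Burn

variable {P : Type*} [Group P]

theorem card_mul_rel {P : Type*} [Group P] {H K : Subgroup P} (h : H ≤ K) :
    Nat.card H * H.relIndex K = Nat.card K := by
  unfold Subgroup.relIndex
  rw [← Nat.card_congr (Subgroup.subgroupOfEquivOfLe h).toEquiv, Subgroup.card_mul_index]

theorem mem_norm {P : Type*} [Group P] [Finite P] {H : Subgroup P} {t : P} (h : ∀ x ∈ H, t * x * t⁻¹ ∈ H) :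
    t ∈ Subgroup.normalizer (H : Set P) := by
  have h1 : H.map (MulAut.conj t).toMonoidHom ≤ H := by
    rintro _ ⟨x, hx, rfl⟩
    simpa [MulAut.conj_apply] using h x hx
  have h2 : H.map (MulAut.conj t).toMonoidHom = H :=
    Subgroup.eq_of_le_of_card_ge h1
      (le_of_eq (Nat.card_congr (H.equivMapOfInjective (MulAut.conj t).toMonoidHom (MulAut.conj t).injective).toEquiv))
  rw [Subgroup.mem_normalizer_iff]
  intro x
  refine ⟨h x, fun hx => ?_⟩
  rw [← h2] at hx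
  obtain ⟨y, hy, hyx⟩ := hx
  have : y = x := (MulAut.conj t).injective (by simpa [MulAut.conj_apply] using hyx)
  rwa [← this]

theorem relIndex_le {P : Type*} [Group P] [Finite P] (T Q : Subgroup P) : T.relIndex Q ≤ T.index := by
  have h : T.relIndex (⊤ : Subgroup P) = T.index := Subgroup.relIndex_top_right T
  rw [← h]
  exact Subgroup.relIndex_le_of_le_right le_top (by rw [h]; exact Subgroup.FiniteIndex.index_ne_zero)

/-- `Q` is special with centre `Z`, in a strong sense, and `Z` is central in `P`. -/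
structure Hyp (Z Q : Subgroup P) : Prop where
  le : Z ≤ Q
  central : ∀ z ∈ Z, ∀ g : P, g * z = z * g
  comm_mem : ∀ x ∈ Q, ∀ y ∈ Q, x * y * x⁻¹ * y⁻¹ ∈ Z
  special : ∀ x ∈ Q, x ∉ Z → ∀ z ∈ Z, ∃ y ∈ Q, x * y * x⁻¹ * y⁻¹ = z

variable {Z Q : Subgroup P}

/-- A finite commutative group with more than one element has a nontrivial linear character. -/
theorem exists_char {Z : Type*} [Group Z] [Finite Z] (hc : ∀ a b : Z, a * b = b * a) {t : Z} (ht : t ≠ 1) :
    ∃ lam : Z →* ℂ, lam ≠ 1 := by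
  let _ : CommGroup Z := { (inferInstance : Group Z) with mul_comm := hc }
  have hexp : Monoid.exponent Z ≠ 0 := Monoid.exponent_ne_zero_of_finite
  have : NeZero (Monoid.exponent Z) := ⟨hexp⟩
  obtain ⟨φ, hφ⟩ := CommGroup.exists_apply_ne_one_of_hasEnoughRootsOfUnity Z ℂ ht
  refine ⟨(Units.coeHom ℂ).comp φ, fun h0 => hφ ?_⟩
  exact Units.ext (DFunLike.congr_fun h0 t)

theorem Hyp.exists_char [Finite P] (h : Hyp Z Q) {t : P} (ht : t ∈ Z) (ht1 : t ≠ 1) : ∃ lam : Z →* ℂ, lam ≠ 1 :=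
  Heis.exists_char (fun a b => Subtype.ext (h.central b b.2 a)) (t := ⟨t, ht⟩) fun h0 => ht1 (congrArg Subtype.val h0)

/-- The pairing `lam [x, y]`. -/
noncomputable def b (h : Hyp Z Q) (lam : Z →* ℂ) (x y : Q) : ℂ :=
  lam ⟨(x : P) * y * (x : P)⁻¹ * (y : P)⁻¹, h.comm_mem x x.2 y y.2⟩

theorem b_mul_left (h : Hyp Z Q) (lam : Z →* ℂ) (x x' y : Q) : b h lam (x * x') y = b h lam x y * b h lam x' y := by
  unfold b
  rw [← map_mul]
  congr 1
  apply Subtype.ext
  have h1 := h.central _ (h.comm_mem x' x'.2 y y.2) (x : P)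
  show (x : P) * x' * y * ((x : P) * x')⁻¹ * (y : P)⁻¹ = (x * y * (x : P)⁻¹ * (y : P)⁻¹) * (x' * y * (x' : P)⁻¹ * (y : P)⁻¹)
  have h2 := h.central _ (h.comm_mem x' x'.2 y y.2) ((x : P) * y * (x : P)⁻¹ * (y : P)⁻¹)
  rw [h2]
  calc (x : P) * x' * y * ((x : P) * x')⁻¹ * (y : P)⁻¹
      = ((x : P) * (x' * y * (x' : P)⁻¹ * (y : P)⁻¹)) * (y * (x : P)⁻¹ * (y : P)⁻¹) := by group
    _ = _ := by rw [h1]; group

theorem b_mul_right (h : Hyp Z Q) (lam : Z →* ℂ) (x y y' : Q) : b h lam x (y * y') = b h lam x y * b h lam x y' := by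
  unfold b
  rw [← map_mul]
  congr 1
  apply Subtype.ext
  have h1 := h.central _ (h.comm_mem x x.2 y' y'.2) (y : P)
  show (x : P) * (y * y') * (x : P)⁻¹ * ((y : P) * y')⁻¹ = (x * y * (x : P)⁻¹ * (y : P)⁻¹) * (x * y' * (x : P)⁻¹ * (y' : P)⁻¹)
  calc (x : P) * (y * y') * (x : P)⁻¹ * ((y : P) * y')⁻¹
      = (x * y * (x : P)⁻¹ * (y : P)⁻¹) * ((y : P) * (x * y' * (x : P)⁻¹ * (y' : P)⁻¹)) * (y : P)⁻¹ := by group
    _ = _ := by rw [h1]; group

/-- `y ↦ lam [x, y]`. -/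
noncomputable def bl (h : Hyp Z Q) (lam : Z →* ℂ) (x : Q) : Q →* ℂ where
  toFun := b h lam x
  map_one' := by
    unfold b
    rw [show (⟨(x : P) * (1 : Q) * (x : P)⁻¹ * ((1 : Q) : P)⁻¹, h.comm_mem x x.2 _ (1 : Q).2⟩ : Z) = 1 from
      Subtype.ext (by simp)]
    exact map_one lam
  map_mul' y y' := b_mul_right h lam x y y'

/-- `x ↦ lam [x, y]`. -/
noncomputable def br (h : Hyp Z Q) (lam : Z →* ℂ) (y : Q) : Q →* ℂ where
  toFun x := b h lam x y
  map_one' := by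
    unfold b
    rw [show (⟨((1 : Q) : P) * y * ((1 : Q) : P)⁻¹ * (y : P)⁻¹, h.comm_mem _ (1 : Q).2 y y.2⟩ : Z) = 1 from
      Subtype.ext (by simp)]
    exact map_one lam
  map_mul' x x' := b_mul_left h lam x x' y

theorem bl_apply (h : Hyp Z Q) (lam : Z →* ℂ) (x y : Q) : bl h lam x y = b h lam x y := rfl

theorem br_apply (h : Hyp Z Q) (lam : Z →* ℂ) (x y : Q) : br h lam y x = b h lam x y := rfl

theorem b_eq_one_of_left (h : Hyp Z Q) (lam : Z →* ℂ) {x : Q} (hx : (x : P) ∈ Z) (y : Q) : b h lam x y = 1 := by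
  unfold b
  rw [show (⟨(x : P) * y * (x : P)⁻¹ * (y : P)⁻¹, h.comm_mem x x.2 y y.2⟩ : Z) = 1 from
    Subtype.ext (by
      show (x : P) * y * (x : P)⁻¹ * (y : P)⁻¹ = 1
      rw [← h.central _ hx y]; group)]
  exact map_one lam

theorem b_eq_one_of_right (h : Hyp Z Q) (lam : Z →* ℂ) (x : Q) {y : Q} (hy : (y : P) ∈ Z) : b h lam x y = 1 := by
  unfold b
  rw [show (⟨(x : P) * y * (x : P)⁻¹ * (y : P)⁻¹, h.comm_mem x x.2 y y.2⟩ : Z) = 1 from
    Subtype.ext (by
      show (x : P) * y * (x : P)⁻¹ * (y : P)⁻¹ = 1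
      rw [h.central _ hy x]; group)]
  exact map_one lam

theorem exists_b_ne_one (h : Hyp Z Q) {lam : Z →* ℂ} (hl : lam ≠ 1) {x : Q} (hx : (x : P) ∉ Z) :
    ∃ y : Q, b h lam x y ≠ 1 := by
  by_contra hcon
  push Not at hcon
  apply hl
  ext z
  obtain ⟨y, hy, hz⟩ := h.special x x.2 hx z z.2
  have h1 := hcon ⟨y, hy⟩
  unfold b at h1
  rw [show (⟨(x : P) * y * (x : P)⁻¹ * y⁻¹, h.comm_mem x x.2 y hy⟩ : Z) = z from Subtype.ext hz] at h1
  exact h1

/-- **Isotropic subgroups are small**: if `lam` is trivial on `R ∩ Z`, then `|R|² |Z| ≤ |Q| |R ∩ Z|²`. -/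
theorem isotropic_le [Finite P] (h : Hyp Z Q) {lam : Z →* ℂ} (hl : lam ≠ 1) (R : Subgroup P) (hR : R ≤ Q)
    (hRZ : ∀ z (hz : z ∈ Z), z ∈ R → lam ⟨z, hz⟩ = 1) :
    Nat.card R ^ 2 * Nat.card Z ≤ Nat.card Q * Nat.card (R ⊓ Z : Subgroup P) ^ 2 := by
  classical
  have := Fintype.ofFinite Q
  have := Fintype.ofFinite P
  set R' : Subgroup Q := R.subgroupOf Q with hR'
  set Z' : Subgroup Q := Z.subgroupOf Q with hZ'
  have hcR : Nat.card R' = Nat.card R := Nat.card_congr (Subgroup.subgroupOfEquivOfLe hR).toEquiv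
  have hcZ : Nat.card Z' = Nat.card Z := Nat.card_congr (Subgroup.subgroupOfEquivOfLe h.le).toEquiv
  have hcRZ : Nat.card (R' ⊓ Z' : Subgroup Q) = Nat.card (R ⊓ Z : Subgroup P) := by
    rw [hR', hZ']
    show Nat.card ((R ⊓ Z).subgroupOf Q) = _
    exact Nat.card_congr (Subgroup.subgroupOfEquivOfLe (inf_le_left.trans hR)).toEquiv
  have hZn : Z'.Normal := by
    constructor
    intro z hz g
    rw [hZ', Subgroup.mem_subgroupOf] at hz ⊢
    have h1 : ((g * z * g⁻¹ : Q) : P) = z := by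
      show (g : P) * z * (g : P)⁻¹ = z
      rw [h.central _ hz g]; group
    rw [h1]; exact hz
  -- the sum over `R × Q` of `lam [x, y]`
  have hrow : ∀ x : R', ∑ y : Q, b h lam x y = if (x : Q) ∈ Z' then (Nat.card Q : ℂ) else 0 := by
    intro x
    have h1 := sum_hom_units (bl h lam x)
    rw [show ∑ y : Q, b h lam x y = ∑ y : Q, bl h lam x y from rfl, h1]
    by_cases hx : (x : Q) ∈ Z'
    · rw [if_pos hx, if_pos, Nat.card_eq_fintype_card]
      ext y
      exact b_eq_one_of_left h lam hx y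
    · rw [if_neg hx, if_neg, Nat.cast_zero]
      intro h2
      obtain ⟨y, hy⟩ := exists_b_ne_one h hl hx
      exact hy (DFunLike.congr_fun h2 y)
  have hcol : ∀ y : Q, ∑ x : R', b h lam x y =
      if (∀ x : R', b h lam x y = 1) then (Nat.card R' : ℂ) else 0 := by
    intro y
    have h1 := sum_hom_units ((br h lam y).comp R'.subtype)
    rw [show ∑ x : R', b h lam x y = ∑ x : R', ((br h lam y).comp R'.subtype) x from rfl, h1]
    by_cases hx : ∀ x : R', b h lam x y = 1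
    · rw [if_pos hx, if_pos, Nat.card_eq_fintype_card]
      ext x
      exact hx x
    · rw [if_neg hx, if_neg, Nat.cast_zero]
      intro h2
      exact hx fun x => DFunLike.congr_fun h2 x
  have hS1 : ∑ x : R', ∑ y : Q, b h lam x y = (Nat.card (R' ⊓ Z' : Subgroup Q) : ℂ) * Nat.card Q := by
    rw [Finset.sum_congr rfl fun x _ => hrow x, ← Finset.sum_filter, Finset.sum_const, nsmul_eq_mul]
    congr 2
    rw [← Fintype.card_subtype, ← Nat.card_eq_fintype_card]
    refine Nat.card_congr ⟨fun x => ⟨(x : R'), Subgroup.mem_inf.2 ⟨(x : R').2, x.2⟩⟩,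
      fun x => ⟨⟨x, (Subgroup.mem_inf.1 x.2).1⟩, (Subgroup.mem_inf.1 x.2).2⟩, fun _ => rfl, fun _ => rfl⟩
  have hS2 : ∑ x : R', ∑ y : Q, b h lam x y =
      (Nat.card {y : Q // ∀ x : R', b h lam x y = 1} : ℂ) * Nat.card R' := by
    rw [Finset.sum_comm, Finset.sum_congr rfl fun y _ => hcol y, ← Finset.sum_filter, Finset.sum_const, nsmul_eq_mul,
      ← Fintype.card_subtype, ← Nat.card_eq_fintype_card]
  have hS : Nat.card (R' ⊓ Z' : Subgroup Q) * Nat.card Q =
      Nat.card {y : Q // ∀ x : R', b h lam x y = 1} * Nat.card R' := by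
    have := hS1.symm.trans hS2
    exact_mod_cast this
  have hge : Nat.card (R' ⊔ Z' : Subgroup Q) ≤ Nat.card {y : Q // ∀ x : R', b h lam x y = 1} := by
    refine Nat.card_le_card_of_injective (fun y => ⟨(y : Q), ?_⟩) fun y y' hyy => ?_
    · intro x
      obtain ⟨r, hr, z, hz, hrz⟩ := Subgroup.mem_sup_of_normal_right.1 y.2
      rw [← hrz, b_mul_right, b_eq_one_of_right h lam x (y := z) hz, mul_one]
      unfold b
      apply hRZ
      exact mul_mem (mul_mem (mul_mem x.2 hr) (inv_mem x.2)) (inv_mem hr)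
    · exact Subtype.ext (congrArg (fun w : {y : Q // ∀ x : R', b h lam x y = 1} => (w : Q)) hyy)
  have hsup : Nat.card (R' ⊔ Z' : Subgroup Q) * Nat.card (R' ⊓ Z' : Subgroup Q) = Nat.card R' * Nat.card Z' := by
    have h1 : Z'.relIndex (R' ⊔ Z') = Z'.relIndex R' := Subgroup.relIndex_sup_right _ _
    have h2 := card_mul_rel (H := Z') (K := R' ⊔ Z') le_sup_right
    have h3 := card_mul_rel (H := Z' ⊓ R') (K := R') inf_le_right
    rw [Subgroup.inf_relIndex_right] at h3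
    rw [h1] at h2
    rw [← h2, inf_comm, ← h3]
    ring
  rw [← hcR, ← hcZ, ← hcRZ]
  have hpos : 0 < Nat.card (R' ⊓ Z' : Subgroup Q) := Nat.card_pos
  have h4 : Nat.card R' * Nat.card Z' * Nat.card R' ≤
      (Nat.card (R' ⊓ Z' : Subgroup Q) * Nat.card Q) * Nat.card (R' ⊓ Z' : Subgroup Q) := by
    rw [hS, ← hsup]
    calc Nat.card (R' ⊔ Z' : Subgroup Q) * Nat.card (R' ⊓ Z' : Subgroup Q) * Nat.card R'
        ≤ Nat.card {y : Q // ∀ x : R', b h lam x y = 1} * Nat.card (R' ⊓ Z' : Subgroup Q) * Nat.card R' :=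
          Nat.mul_le_mul_right _ (Nat.mul_le_mul_right _ hge)
      _ = _ := by ring
  calc Nat.card R' ^ 2 * Nat.card Z' = Nat.card R' * Nat.card Z' * Nat.card R' := by ring
    _ ≤ _ := h4
    _ = _ := by ring

section Main

variable [Finite P] {Ω : Type*} [MulAction P Ω] [Finite Ω]

/-- Lower bound for `|Ω| - c` by one orbit of `P`. -/
theorem orbit_le (h : Hyp Z Q) {lam : Z →* ℂ} (hl : lam ≠ 1) (c : ℕ)
    (hc : ∀ z ∈ Z, z ≠ 1 → fx Ω z = c) (ω : Ω) (hω : ∀ z (hz : z ∈ Z), z • ω = ω → lam ⟨z, hz⟩ = 1) :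
    (stabilizer P ω).index * Nat.card (stabilizer P ω ⊓ Z : Subgroup P) + c ≤ Nat.card Ω := by
  classical
  have := Fintype.ofFinite Ω
  have := Fintype.ofFinite P
  have h1 := sub_eq_sum_stab (Z := Z) (Ω := Ω) lam hl c fun z hz => by
    rw [← hc z z.2 fun h' => hz (Subtype.ext h')]
    rfl
  have hst : ∀ g : P, Nat.card (stabilizer Z (g • ω)) = Nat.card (stabilizer P ω ⊓ Z : Subgroup P) := by
    intro g
    refine Nat.card_congr ⟨fun z => ⟨(z : Z), ?_, (z : Z).2⟩, fun z => ⟨⟨z, z.2.2⟩, ?_⟩, fun _ => rfl, fun _ => rfl⟩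
    · have h2 : ((z : Z) : P) • (g • ω) = g • ω := z.2
      rw [← mul_smul, ← h.central _ (z : Z).2 g, mul_smul, smul_left_cancel_iff] at h2
      exact h2
    · show (z : P) • (g • ω) = g • ω
      rw [← mul_smul, ← h.central _ z.2.2 g, mul_smul, show (z : P) • ω = ω from z.2.1]
  have hker : ∀ g : P, ∀ z ∈ stabilizer Z (g • ω), lam z = 1 := by
    intro g z hz
    apply hω z z.2
    have h2 : (z : P) • (g • ω) = g • ω := hz
    rw [← mul_smul, ← h.central _ z.2 g, mul_smul, smul_left_cancel_iff] at h2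
    exact h2
  have h2 : (stabilizer P ω).index * Nat.card (stabilizer P ω ⊓ Z : Subgroup P) =
      ∑ ω' ∈ (orbit P ω).toFinset, Nat.card (stabilizer P ω ⊓ Z : Subgroup P) := by
    rw [Finset.sum_const, smul_eq_mul, Set.toFinset_card, ← Nat.card_eq_fintype_card, MulAction.index_stabilizer]
    rfl
  have h3 : ∑ ω' ∈ (orbit P ω).toFinset, Nat.card (stabilizer P ω ⊓ Z : Subgroup P) ≤
      ∑ ω' : Ω, wt lam ω' := by
    calc ∑ ω' ∈ (orbit P ω).toFinset, Nat.card (stabilizer P ω ⊓ Z : Subgroup P)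
        = ∑ ω' ∈ (orbit P ω).toFinset, wt lam ω' := by
          refine Finset.sum_congr rfl fun ω' hω' => ?_
          obtain ⟨g, rfl⟩ := Set.mem_toFinset.1 hω'
          show _ = wt lam (g • ω)
          rw [wt_pos (hker g), hst g]
      _ ≤ _ := Finset.sum_le_sum_of_subset (Finset.subset_univ _)
  omega

/-- A point whose stabiliser in `Z` is in the kernel of `lam`. -/
theorem exists_point {lam : Z →* ℂ} (hl : lam ≠ 1) (c : ℕ)
    (hc : ∀ z ∈ Z, z ≠ 1 → fx Ω z = c) (hlt : c < Nat.card Ω) :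
    ∃ ω : Ω, ∀ z (hz : z ∈ Z), z • ω = ω → lam ⟨z, hz⟩ = 1 := by
  classical
  have := Fintype.ofFinite Ω
  have h1 := sub_eq_sum_stab (Z := Z) (Ω := Ω) lam hl c fun z hz => by
    rw [← hc z z.2 fun h' => hz (Subtype.ext h')]
    rfl
  by_contra hcon
  push Not at hcon
  have h2 : ∑ ω' : Ω, wt lam ω' = 0 := by
    refine Finset.sum_eq_zero fun ω _ => ?_
    obtain ⟨z, hz, hzω, hne⟩ := hcon ω
    apply wt_zero
    intro h3
    exact hne (h3 ⟨z, hz⟩ hzω)
  omega

/-- `|P : P_ω| |Q_ω| = |P : P_ω Q| |Q|`. -/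
theorem index_mul [hQ : Q.Normal] (T : Subgroup P) :
    T.index * Nat.card (Q ⊓ T : Subgroup P) = (T ⊔ Q).index * Nat.card Q := by
  have h1 : Q.relIndex (T ⊔ Q) = Q.relIndex T := Subgroup.relIndex_sup_right _ _
  have h2 := card_mul_rel (H := Q) (K := T ⊔ Q) le_sup_right
  have h3 := card_mul_rel (H := Q ⊓ T) (K := T) inf_le_right
  rw [Subgroup.inf_relIndex_right] at h3
  rw [h1] at h2
  have h4 := T.card_mul_index
  have h5 := (T ⊔ Q).card_mul_index
  have hpos : 0 < Q.relIndex T := by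
    rw [Nat.pos_iff_ne_zero]
    exact fun h0 => (Nat.card_pos (α := T)).ne' (by rw [← h3, h0, mul_zero])
  apply Nat.eq_of_mul_eq_mul_right hpos
  calc T.index * Nat.card (Q ⊓ T : Subgroup P) * Q.relIndex T
      = (Nat.card (Q ⊓ T : Subgroup P) * Q.relIndex T) * T.index := by ring
    _ = Nat.card P := by rw [h3, h4]
    _ = (Nat.card Q * Q.relIndex T) * (T ⊔ Q).index := by rw [h2, h5]
    _ = _ := by ring

/-- **The amplified bound.** -/
theorem amp [hQ : Q.Normal] (h : Hyp Z Q) {lam : Z →* ℂ} (hl : lam ≠ 1) (c : ℕ)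
    (hc : ∀ z ∈ Z, z ≠ 1 → fx Ω z = c) (hlt : c < Nat.card Ω) (m : ℕ)
    (hm : ∀ M : Subgroup P, Q ≤ M → M ≠ ⊤ → m ≤ M.index)
    (hirr : ∀ R : Subgroup P, R.Normal → Z ≤ R → R ≤ Q → R = Z ∨ R = Q) (hQZ : Z ≠ Q) :
    Nat.card Q ≤ Nat.card Ω - c ∨ m ^ 2 * (Nat.card Z * Nat.card Q) ≤ (Nat.card Ω - c) ^ 2 := by
  obtain ⟨ω, hω⟩ := exists_point hl c hc hlt
  have h1 := orbit_le h hl c hc ω hω
  set T := stabilizer P ω with hT
  set R : Subgroup P := Q ⊓ T with hR
  have hRZ : R ⊓ Z = T ⊓ Z := by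
    rw [hR, inf_comm Q T, inf_assoc, inf_eq_right.2 h.le]
  have hiso := isotropic_le h hl R inf_le_left fun z hz hzR => hω z hz hzR.2
  rw [hRZ] at hiso
  have hidx := index_mul (Q := Q) T
  rw [← hR] at hidx
  by_cases hM : T ⊔ Q = ⊤
  · left
    rw [hM, Subgroup.index_top, one_mul] at hidx
    -- `R Z` is normal
    have hn : (R ⊔ Z).Normal := by
      have hZn : Z.Normal := ⟨fun z hz g => by rw [h.central z hz g]; simpa using hz⟩
      rw [← Subgroup.normalizer_eq_top_iff, eq_top_iff, ← hM]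
      refine sup_le ?_ ?_
      · intro t ht
        apply mem_norm
        intro x hx
        obtain ⟨r, hr, z, hz, rfl⟩ := Subgroup.mem_sup_of_normal_right.1 hx
        have h2 : t * (r * z) * t⁻¹ = (t * r * t⁻¹) * (t * z * t⁻¹) := by group
        rw [h2]
        refine mul_mem (Subgroup.mem_sup_left ⟨hQ.conj_mem _ hr.1 _, ?_⟩) (Subgroup.mem_sup_right (hZn.conj_mem _ hz _))
        exact T.mul_mem (T.mul_mem ht hr.2) (T.inv_mem ht)
      · intro t ht
        apply mem_norm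
        intro x hx
        have hxQ : x ∈ Q := (sup_le inf_le_left h.le) hx
        have h2 : t * x * t⁻¹ = (t * x * t⁻¹ * x⁻¹) * x := by group
        rw [h2]
        exact mul_mem (Subgroup.mem_sup_right (h.comm_mem t ht x hxQ)) hx
    rcases hirr (R ⊔ Z) hn le_sup_right (sup_le inf_le_left h.le) with h2 | h2
    · have h3 : R ≤ Z := by rw [← h2]; exact le_sup_left
      have h4 : T ⊓ Z = R := by
        rw [← hRZ, inf_eq_left.2 h3]
      rw [h4] at h1
      rw [hidx] at h1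
      omega
    · exfalso
      obtain ⟨x, hx, hxZ⟩ := SetLike.exists_of_lt (lt_of_le_of_ne h.le hQZ)
      apply hl
      ext z
      obtain ⟨y, hy, hz⟩ := h.special x hx hxZ z z.2
      have hZn : Z.Normal := ⟨fun z hz g => by rw [h.central z hz g]; simpa using hz⟩
      rw [← h2] at hx hy
      obtain ⟨r, hr, z1, hz1, rfl⟩ := Subgroup.mem_sup_of_normal_right.1 hx
      obtain ⟨s, hs, z2, hz2, rfl⟩ := Subgroup.mem_sup_of_normal_right.1 hy
      have h3 : (z : P) = r * s * r⁻¹ * s⁻¹ := by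
        rw [← hz]
        calc r * z1 * (s * z2) * (r * z1)⁻¹ * (s * z2)⁻¹
            = r * (z1 * s) * (z2 * z1⁻¹) * r⁻¹ * z2⁻¹ * s⁻¹ := by group
          _ = r * (s * z1) * (z2 * z1⁻¹) * r⁻¹ * z2⁻¹ * s⁻¹ := by rw [← h.central z1 hz1 s]
          _ = r * s * (z1 * (z2 * z1⁻¹)) * r⁻¹ * z2⁻¹ * s⁻¹ := by group
          _ = r * s * z2 * r⁻¹ * z2⁻¹ * s⁻¹ := by
              rw [← h.central z1 hz1 (z2 * z1⁻¹)]; group
          _ = r * s * (z2 * r⁻¹) * z2⁻¹ * s⁻¹ := by group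
          _ = r * s * r⁻¹ * s⁻¹ := by rw [← h.central z2 hz2 r⁻¹]; group
      have h4 : (z : P) ∈ R := by
        rw [h3]
        exact mul_mem (mul_mem (mul_mem hr hs) (inv_mem hr)) (inv_mem hs)
      exact hω z z.2 h4.2
  · right
    have h2 := hm _ le_sup_right hM
    set A := T.index * Nat.card (T ⊓ Z : Subgroup P) with hA
    have hAle : A ≤ Nat.card Ω - c := by omega
    have hRpos : 0 < Nat.card R := Nat.card_pos
    have hzpos : 0 < Nat.card (T ⊓ Z : Subgroup P) := Nat.card_pos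
    have h3 : m * Nat.card Q * Nat.card (T ⊓ Z : Subgroup P) ≤ A * Nat.card R := by
      calc m * Nat.card Q * Nat.card (T ⊓ Z : Subgroup P)
          ≤ (T ⊔ Q).index * Nat.card Q * Nat.card (T ⊓ Z : Subgroup P) :=
            Nat.mul_le_mul_right _ (Nat.mul_le_mul_right _ h2)
        _ = _ := by rw [← hidx, hA]; ring
    have h4 : (m * Nat.card Q * Nat.card (T ⊓ Z : Subgroup P)) ^ 2 * Nat.card Z ≤ A ^ 2 * (Nat.card R ^ 2 * Nat.card Z) := by
      calc (m * Nat.card Q * Nat.card (T ⊓ Z : Subgroup P)) ^ 2 * Nat.card Z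
          ≤ (A * Nat.card R) ^ 2 * Nat.card Z := Nat.mul_le_mul_right _ (Nat.pow_le_pow_left h3 2)
        _ = _ := by ring
    have h5 : (m ^ 2 * (Nat.card Z * Nat.card Q)) * (Nat.card Q * Nat.card (T ⊓ Z : Subgroup P) ^ 2) ≤
        A ^ 2 * (Nat.card Q * Nat.card (T ⊓ Z : Subgroup P) ^ 2) := by
      calc (m ^ 2 * (Nat.card Z * Nat.card Q)) * (Nat.card Q * Nat.card (T ⊓ Z : Subgroup P) ^ 2)
          = (m * Nat.card Q * Nat.card (T ⊓ Z : Subgroup P)) ^ 2 * Nat.card Z := by ring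
        _ ≤ A ^ 2 * (Nat.card R ^ 2 * Nat.card Z) := h4
        _ ≤ _ := Nat.mul_le_mul_left _ hiso
    have h6 : 0 < Nat.card Q * Nat.card (T ⊓ Z : Subgroup P) ^ 2 :=
      Nat.mul_pos Nat.card_pos (pow_pos hzpos 2)
    exact (Nat.le_of_mul_le_mul_right h5 h6).trans (Nat.pow_le_pow_left hAle 2)

/-- **The basic bound.** -/
theorem sq_le (h : Hyp Z Q) {lam : Z →* ℂ} (hl : lam ≠ 1) (c : ℕ)
    (hc : ∀ z ∈ Z, z ≠ 1 → fx Ω z = c) (hlt : c < Nat.card Ω) :
    Nat.card Z * Nat.card Q ≤ (Nat.card Ω - c) ^ 2 := by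
  obtain ⟨ω, hω⟩ := exists_point hl c hc hlt
  have h1 := orbit_le h hl c hc ω hω
  set T := stabilizer P ω with hT
  set R : Subgroup P := Q ⊓ T with hR
  have hRZ : R ⊓ Z = T ⊓ Z := by
    rw [hR, inf_comm Q T, inf_assoc, inf_eq_right.2 h.le]
  have hiso := isotropic_le h hl R inf_le_left fun z hz hzR => hω z hz hzR.2
  rw [hRZ] at hiso
  set A := T.index * Nat.card (T ⊓ Z : Subgroup P) with hA
  have hAle : A ≤ Nat.card Ω - c := by omega
  have hzpos : 0 < Nat.card (T ⊓ Z : Subgroup P) := Nat.card_pos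
  -- `|Q| ≤ |P : T| |R|`
  have h2 : Nat.card Q ≤ T.index * Nat.card R := by
    have h3 : T.relIndex Q ≤ T.index := relIndex_le T Q
    have h4 := card_mul_rel (H := T ⊓ Q) (K := Q) inf_le_right
    rw [Subgroup.inf_relIndex_right, inf_comm] at h4
    rw [← h4, mul_comm]
    exact Nat.mul_le_mul_right _ h3
  have h3 : Nat.card Q * Nat.card (T ⊓ Z : Subgroup P) ≤ A * Nat.card R := by
    calc Nat.card Q * Nat.card (T ⊓ Z : Subgroup P)
        ≤ T.index * Nat.card R * Nat.card (T ⊓ Z : Subgroup P) := Nat.mul_le_mul_right _ h2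
      _ = _ := by rw [hA]; ring
  have h4 : (Nat.card Q * Nat.card (T ⊓ Z : Subgroup P)) ^ 2 * Nat.card Z ≤ A ^ 2 * (Nat.card R ^ 2 * Nat.card Z) := by
    calc (Nat.card Q * Nat.card (T ⊓ Z : Subgroup P)) ^ 2 * Nat.card Z
        ≤ (A * Nat.card R) ^ 2 * Nat.card Z := Nat.mul_le_mul_right _ (Nat.pow_le_pow_left h3 2)
      _ = _ := by ring
  have h5 : (Nat.card Z * Nat.card Q) * (Nat.card Q * Nat.card (T ⊓ Z : Subgroup P) ^ 2) ≤
      A ^ 2 * (Nat.card Q * Nat.card (T ⊓ Z : Subgroup P) ^ 2) := by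
    calc (Nat.card Z * Nat.card Q) * (Nat.card Q * Nat.card (T ⊓ Z : Subgroup P) ^ 2)
        = (Nat.card Q * Nat.card (T ⊓ Z : Subgroup P)) ^ 2 * Nat.card Z := by ring
      _ ≤ A ^ 2 * (Nat.card R ^ 2 * Nat.card Z) := h4
      _ ≤ _ := Nat.mul_le_mul_left _ hiso
  have h6 : 0 < Nat.card Q * Nat.card (T ⊓ Z : Subgroup P) ^ 2 :=
    Nat.mul_pos Nat.card_pos (pow_pos hzpos 2)
  exact (Nat.le_of_mul_le_mul_right h5 h6).trans (Nat.pow_le_pow_left hAle 2)

end Main

end Cfsg.Agent.H934.Heis
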