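import Mathlib
import Cfsg.Agent.ClassicalGeometry.AutPSL.Frame
import Cfsg.Agent.H934.Burn

/-!
# Homomorphisms of `SL_n(q)` (`n ≥ 3`) and `GL_n(q)` (`n ≥ 2`) into a simple group and indices of subgroups

The group of transvections with a given centre has order `q ^ (n - 1)` and its nonidentity elements are conjugate.
-/

set_option autoImplicit false

namespace Cfsg.Agent.H934.IdxSL

open MulAction Matrix Cfsg.Agent.ClassicalGeometry.AutPSL.Root Cfsg.Agent.ClassicalGeometry.AutPSL.Frame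
  Cfsg.Agent.H934.Burn

variable {ι F : Type*} [Fintype ι] [DecidableEq ι] [Field F]

/-- The transvections with centre `a`. -/
def Qs (a : ι → F) : Subgroup (SpecialLinearGroup ι F) where
  carrier := {x | ∃ (φ : ι → F) (h : φ ⬝ᵥ a = 0), x = tr a φ h}
  one_mem' := ⟨0, by simp, by
    apply sl_ext
    intro x
    rw [tr_mulVec]
    simp⟩
  mul_mem' := by
    rintro _ _ ⟨φ, h, rfl⟩ ⟨ψ, h', rfl⟩
    exact ⟨_, _, tr_mul_same_center a φ ψ h h'⟩
  inv_mem' := by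
    rintro _ ⟨φ, h, rfl⟩
    refine ⟨-φ, by rw [neg_dotProduct, h, neg_zero], ?_⟩
    rw [inv_eq_iff_mul_eq_one, tr_mul_same_center a φ (-φ) h]
    apply sl_ext
    intro x
    rw [tr_mulVec]
    simp

theorem mem_Qs {a : ι → F} {x : SpecialLinearGroup ι F} :
    x ∈ Qs a ↔ ∃ (φ : ι → F) (h : φ ⬝ᵥ a = 0), x = tr a φ h := Iff.rfl

theorem tr_zero (a : ι → F) (h : (0 : ι → F) ⬝ᵥ a = 0) : tr a 0 h = 1 := by
  apply sl_ext
  intro x
  rw [tr_mulVec]
  simp

theorem tr_inj {a : ι → F} (ha : a ≠ 0) {φ ψ : ι → F} {h : φ ⬝ᵥ a = 0} {h' : ψ ⬝ᵥ a = 0}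
    (he : tr a φ h = tr a ψ h') : φ = ψ := by
  obtain ⟨i, hi⟩ := Function.ne_iff.1 ha
  rw [tr_eq_iff] at he
  ext j
  have h1 := congrFun (congrFun he i) j
  rw [vecMulVec_apply, vecMulVec_apply] at h1
  exact mul_left_cancel₀ hi h1

theorem card_Qs [Fintype F] (i0 : ι) :
    Fintype.card F ^ (Fintype.card ι - 1) ≤ Nat.card (Qs (Pi.single i0 1 : ι → F)) := by
  classical
  have h0 : ∀ f : {j : ι // j ≠ i0} → F,
      (fun j => if h : j ≠ i0 then f ⟨j, h⟩ else 0) ⬝ᵥ (Pi.single i0 1 : ι → F) = 0 := by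
    intro f
    rw [dotProduct_single, mul_one, dif_neg (by simp)]
  have h1 : Nat.card ({j : ι // j ≠ i0} → F) ≤ Nat.card (Qs (Pi.single i0 1 : ι → F)) := by
    refine Nat.card_le_card_of_injective (fun f => ⟨tr _ _ (h0 f), mem_Qs.2 ⟨_, _, rfl⟩⟩) ?_
    intro f g hfg
    have h2 := tr_inj (a := (Pi.single i0 1 : ι → F)) (by simp) (h := h0 f) (h' := h0 g) (congrArg Subtype.val hfg)
    ext j
    have h3 := congrFun h2 j
    simpa [j.2] using h3
  rw [Nat.card_fun, Nat.card_eq_fintype_card, Nat.card_eq_fintype_card] at h1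
  rwa [show Fintype.card {j : ι // j ≠ i0} = Fintype.card ι - 1 by
    rw [Fintype.card_subtype_compl, Fintype.card_subtype_eq]] at h1

/-- Conjugation of a transvection, matrix form. -/
theorem conj_tr_aux {A : GL ι F} {a φ b ψ : ι → F} (h1 : (A : Matrix ι ι F) *ᵥ b = a)
    (h2 : φ ᵥ* (A : Matrix ι ι F) = ψ) :
    (A : Matrix ι ι F) * (1 + vecMulVec b ψ) = (1 + vecMulVec a φ) * (A : Matrix ι ι F) := by
  rw [mul_add, mul_one, add_mul, one_mul, mul_vecMulVec, vecMulVec_mul, h1, h2]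

/-- Two nontrivial transvections are conjugate in `SL`, dimension at least three. -/
theorem isConj_tr (hι : 3 ≤ Fintype.card ι) {a φ b ψ : ι → F} (ha : a ≠ 0) (hφ : φ ≠ 0) (h : φ ⬝ᵥ a = 0)
    (hb : b ≠ 0) (hψ : ψ ≠ 0) (h' : ψ ⬝ᵥ b = 0) : IsConj (tr a φ h) (tr b ψ h') := by
  -- reduce to the standard one
  have hne : (Finset.univ : Finset ι).Nonempty := by
    rw [← Finset.card_pos, Finset.card_univ]; omega
  obtain ⟨i0, -⟩ := hne
  obtain ⟨j0, hj0⟩ : ∃ j0, i0 ≠ j0 := by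
    by_contra hcon
    push Not at hcon
    have : Fintype.card ι ≤ 1 := Fintype.card_le_one_iff.2 fun x y => (hcon x).symm.trans (hcon y)
    omega
  obtain ⟨k0, hk0⟩ : ∃ k0, k0 ∉ ({i0, j0} : Finset ι) := by
    by_contra hcon
    push Not at hcon
    have h1 : (Finset.univ : Finset ι) ⊆ {i0, j0} := fun x _ => hcon x
    have h2 := Finset.card_le_card h1
    rw [Finset.card_univ] at h2
    have h3 : ({i0, j0} : Finset ι).card ≤ 2 := Finset.card_le_two
    omega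
  rw [Finset.mem_insert, Finset.mem_singleton, not_or] at hk0
  have hs : (Pi.single j0 1 : ι → F) ⬝ᵥ (Pi.single i0 1 : ι → F) = 0 := by
    rw [dotProduct_single, Pi.single_eq_of_ne hj0, zero_mul]
  have key : ∀ (a φ : ι → F) (ha : a ≠ 0) (hφ : φ ≠ 0) (h : φ ⬝ᵥ a = 0),
      IsConj (tr (Pi.single i0 1 : ι → F) (Pi.single j0 1) hs) (tr a φ h) := by
    intro a φ ha hφ h
    obtain ⟨A, hA1, hA2⟩ := exists_gl ha hφ h hj0
    set d : F := (A : Matrix ι ι F).det with hd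
    have hd0 : d ≠ 0 := by
      have := A.isUnit.map (Matrix.detMonoidHom)
      exact this.ne_zero
    -- the diagonal matrix
    set D : Matrix ι ι F := diagonal (fun k => if k = k0 then d⁻¹ else 1) with hD
    have hdetD : D.det = d⁻¹ := by
      rw [hD, det_diagonal, Finset.prod_ite_eq' Finset.univ k0]
      simp
    have hAD : ((A : Matrix ι ι F) * D).det = 1 := by
      rw [det_mul, hdetD, ← hd, mul_inv_cancel₀ hd0]
    let B : SpecialLinearGroup ι F := ⟨(A : Matrix ι ι F) * D, hAD⟩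
    rw [isConj_iff]
    refine ⟨B, ?_⟩
    rw [mul_inv_eq_iff_eq_mul]
    apply Subtype.ext
    show ((A : Matrix ι ι F) * D) * (1 + vecMulVec (Pi.single i0 1) (Pi.single j0 1)) =
      (1 + vecMulVec a φ) * ((A : Matrix ι ι F) * D)
    have hDb : D *ᵥ (Pi.single i0 1 : ι → F) = Pi.single i0 1 := by
      rw [hD, diagonal_mulVec_single, if_neg (Ne.symm hk0.1), mul_one]
    have hDψ : (Pi.single j0 1 : ι → F) ᵥ* D = Pi.single j0 1 := by
      rw [hD, single_vecMul_diagonal, if_neg (Ne.symm hk0.2), mul_one]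
    have h1 : D * (1 + vecMulVec (Pi.single i0 1 : ι → F) (Pi.single j0 1)) =
        (1 + vecMulVec (Pi.single i0 1 : ι → F) (Pi.single j0 1)) * D := by
      rw [mul_add, mul_one, add_mul, one_mul, mul_vecMulVec, vecMulVec_mul, hDb, hDψ]
    rw [mul_assoc, h1, ← mul_assoc, conj_tr_aux hA1 hA2, mul_assoc]
  exact (key a φ ha hφ h).symm.trans (key b ψ hb hψ h')

theorem Qs_isConj (hι : 3 ≤ Fintype.card ι) {a : ι → F} (ha : a ≠ 0) :
    ∀ x ∈ Qs a, ∀ y ∈ Qs a, x ≠ 1 → y ≠ 1 → IsConj x y := by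
  rintro x ⟨φ, h, rfl⟩ y ⟨ψ, h', rfl⟩ hx hy
  have hφ : φ ≠ 0 := by
    rintro rfl
    exact hx (tr_zero a h)
  have hψ : ψ ≠ 0 := by
    rintro rfl
    exact hy (tr_zero a h')
  exact isConj_tr hι ha hφ h ha hψ h'

/-- **`SL_n(q)`, `n ≥ 3`, acting.** -/
theorem pow_le_index_SL [Fintype F] (hι : 3 ≤ Fintype.card ι) {X : Type*} [Group X] [Finite X] [IsSimpleGroup X]
    (π : SpecialLinearGroup ι F →* X) {a φ : ι → F} (h : φ ⬝ᵥ a = 0) (hπ : π (tr a φ h) ≠ 1) (H : Subgroup X)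
    (hH : H ≠ ⊤) : Fintype.card F ^ (Fintype.card ι - 1) ≤ H.index := by
  have ha : a ≠ 0 := by
    rintro rfl
    apply hπ
    rw [show tr (0 : ι → F) φ h = 1 from sl_ext fun x => by rw [tr_mulVec]; simp, map_one]
  have hφ : φ ≠ 0 := by
    rintro rfl
    apply hπ
    rw [tr_zero, map_one]
  have hne : (Finset.univ : Finset ι).Nonempty := by
    rw [← Finset.card_pos, Finset.card_univ]; omega
  obtain ⟨i0, -⟩ := hne
  obtain ⟨j0, hj0⟩ : ∃ j0, i0 ≠ j0 := by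
    by_contra hcon
    push Not at hcon
    have : Fintype.card ι ≤ 1 := Fintype.card_le_one_iff.2 fun x y => (hcon x).symm.trans (hcon y)
    omega
  have hs : (Pi.single j0 1 : ι → F) ⬝ᵥ (Pi.single i0 1 : ι → F) = 0 := by
    rw [dotProduct_single, Pi.single_eq_of_ne hj0, zero_mul]
  have ha1 : (Pi.single i0 1 : ι → F) ≠ 0 := by simp
  have hc := isConj_tr hι ha hφ h ha1 (by simp) hs
  refine (card_Qs (F := F) i0).trans (card_le_index π hH (Qs (Pi.single i0 1)) (Qs_isConj hι ha1)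
    ⟨tr _ _ hs, mem_Qs.2 ⟨_, _, rfl⟩, ?_⟩)
  intro h1
  apply hπ
  obtain ⟨g, hg⟩ := isConj_iff.1 hc
  have h2 : π (tr a φ h) = π g⁻¹ * π (tr (Pi.single i0 1) (Pi.single j0 1) hs) * π g := by
    rw [← map_mul, ← map_mul, ← hg]
    congr 1
    group
  rw [h2, h1, map_inv]
  group

/-- **`GL_n(q)`, `n ≥ 2`, acting.** -/
theorem pow_le_index_GL [Fintype F] {X : Type*} [Group X] [Finite X] [IsSimpleGroup X]
    (π : GL ι F →* X) {i0 j0 : ι} (hij : i0 ≠ j0) (hs : (Pi.single j0 1 : ι → F) ⬝ᵥ (Pi.single i0 1 : ι → F) = 0)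
    (hπ : π (SpecialLinearGroup.toGL (tr (Pi.single i0 1 : ι → F) (Pi.single j0 1) hs)) ≠ 1) (H : Subgroup X)
    (hH : H ≠ ⊤) : Fintype.card F ^ (Fintype.card ι - 1) ≤ H.index := by
  have ha1 : (Pi.single i0 1 : ι → F) ≠ 0 := by simp
  have hinj : Function.Injective (SpecialLinearGroup.toGL : SpecialLinearGroup ι F →* GL ι F) := by
    intro x y hxy
    exact Subtype.ext (congrArg (fun g : GL ι F => (g : Matrix ι ι F)) hxy)
  have h1 : Nat.card (Qs (Pi.single i0 1 : ι → F)) = Nat.card ((Qs (Pi.single i0 1 : ι → F)).map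
      (SpecialLinearGroup.toGL : SpecialLinearGroup ι F →* GL ι F)) :=
    Nat.card_congr (Subgroup.equivMapOfInjective _ _ hinj).toEquiv
  have h2 := card_Qs (F := F) i0
  rw [h1] at h2
  refine h2.trans (card_le_index π hH _ ?_ ⟨_, ⟨tr _ _ hs, mem_Qs.2 ⟨_, _, rfl⟩, rfl⟩, hπ⟩)
  rintro _ ⟨x, ⟨φ, h, rfl⟩, rfl⟩ _ ⟨y, ⟨ψ, h', rfl⟩, rfl⟩ hx hy
  have key : ∀ (φ : ι → F) (h : φ ⬝ᵥ (Pi.single i0 1 : ι → F) = 0)
      (_ : SpecialLinearGroup.toGL (tr (Pi.single i0 1 : ι → F) φ h) ≠ 1),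
      IsConj (SpecialLinearGroup.toGL (tr (Pi.single i0 1 : ι → F) (Pi.single j0 1) hs))
        (SpecialLinearGroup.toGL (tr (Pi.single i0 1 : ι → F) φ h)) := by
    intro φ h hx
    have hφ : φ ≠ 0 := by
      rintro rfl
      exact hx (by rw [tr_zero, map_one])
    obtain ⟨A, hA1, hA2⟩ := exists_gl ha1 hφ h hij
    rw [isConj_iff]
    refine ⟨A, ?_⟩
    rw [mul_inv_eq_iff_eq_mul]
    apply Units.ext
    exact conj_tr_aux hA1 hA2
  exact (key φ h hx).symm.trans (key ψ h' hy)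

end Cfsg.Agent.H934.IdxSL
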