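import Mathlib
import Cfsg.Prelude.Def_Classical
import Cfsg.Agent.LieClassical.SLGen
import Cfsg.Agent.H934.IdxSL

/-!
# Lower bounds for the indices of proper subgroups of classical groups

`PSL_n(q)`, `PSp_{2m}(q)`, `PΩ_n(q)` contain images of `GL_m(q)`, `SL_m(q)`.
-/

set_option autoImplicit false

namespace Cfsg.Agent.H934.IdxCl

open Matrix Cfsg.Agent.ClassicalGeometry.AutPSL.Root Cfsg.Agent.H934.IdxSL

theorem ne_one_of_not_comm {S Y : Type*} [Group S] [Group Y] (j : S →* Y) (hj : Function.Injective j) {s t : S}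
    (hs : s * t ≠ t * s) : (QuotientGroup.mk' (Subgroup.center Y)).comp j s ≠ 1 := by
  intro h
  rw [MonoidHom.comp_apply, QuotientGroup.mk'_apply, QuotientGroup.eq_one_iff, Subgroup.mem_center_iff] at h
  apply hs
  apply hj
  rw [map_mul, map_mul, h (j t)]

theorem mem_commutator_of_perfect {S Y : Type*} [Group S] [Group Y] (hS : commutator S = ⊤) (j : S →* Y) (s : S) :
    j s ∈ commutator Y := by
  have h1 : s ∈ commutator S := hS ▸ Subgroup.mem_top s
  have h2 : j s ∈ (commutator S).map j := ⟨s, h1, rfl⟩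
  rw [commutator_def, Subgroup.map_commutator] at h2
  exact Subgroup.commutator_mono le_top le_top h2

section std

variable {ι F : Type*} [Fintype ι] [DecidableEq ι] [Field F]

theorem hs_of {i0 j0 : ι} (h : i0 ≠ j0) : (Pi.single j0 1 : ι → F) ⬝ᵥ (Pi.single i0 1 : ι → F) = 0 := by
  rw [dotProduct_single, Pi.single_eq_of_ne h, zero_mul]

theorem not_comm {i0 j0 : ι} (h : i0 ≠ j0) :
    tr (Pi.single i0 1 : ι → F) (Pi.single j0 1) (hs_of h) * tr (Pi.single j0 1 : ι → F) (Pi.single i0 1) (hs_of h.symm)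
      ≠ tr (Pi.single j0 1 : ι → F) (Pi.single i0 1) (hs_of h.symm) *
        tr (Pi.single i0 1 : ι → F) (Pi.single j0 1) (hs_of h) := by
  intro he
  have h1 := congrArg (fun A : SpecialLinearGroup ι F => (A : Matrix ι ι F) *ᵥ (Pi.single i0 1 : ι → F)) he
  simp only [sl_mul_mulVec, tr_mulVec] at h1
  have h2 := congrFun h1 i0
  simp [h, h.symm] at h2

end std

section psl

variable {ι F : Type*} [Fintype ι] [DecidableEq ι] [Field F] [Fintype F]

/-- `PSL_n(q)`, `n ≥ 3`: proper subgroups have index at least `q ^ (n - 1)`. -/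
theorem psl (hι : 3 ≤ Fintype.card ι) (hsimple : IsSimpleGroup (ProjectiveSpecialLinearGroup ι F))
    (H : Subgroup (ProjectiveSpecialLinearGroup ι F)) (hH : H ≠ ⊤) :
    Fintype.card F ^ (Fintype.card ι - 1) ≤ H.index := by
  obtain ⟨i0, j0, hij⟩ := Fintype.one_lt_card_iff.1 (show 1 < Fintype.card ι by omega)
  haveI : Finite (ProjectiveSpecialLinearGroup ι F) := by
    unfold ProjectiveSpecialLinearGroup
    infer_instance
  exact pow_le_index_SL hι ((QuotientGroup.mk' (Subgroup.center (SpecialLinearGroup ι F))).comp (MonoidHom.id _))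
    (hs_of hij) (ne_one_of_not_comm (MonoidHom.id _) Function.injective_id (not_comm hij)) H hH

end psl

section lev

variable {m : ℕ} {F : Type*} [Field F]

/-- `GL_m` acting on a sum of two dual totally singular spaces. -/
def lev (m : ℕ) (F : Type*) [Field F] : GL (Fin m) F →* Matrix (Fin m ⊕ Fin m) (Fin m ⊕ Fin m) F where
  toFun A := fromBlocks (A : Matrix (Fin m) (Fin m) F) 0 0 (((A⁻¹ : GL (Fin m) F) : Matrix (Fin m) (Fin m) F)ᵀ)
  map_one' := by simp
  map_mul' A B := by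
    rw [fromBlocks_multiply, _root_.mul_inv_rev, Units.val_mul, Units.val_mul, transpose_mul]
    simp only [mul_zero, zero_mul, add_zero, zero_add]

theorem lev_apply (A : GL (Fin m) F) : lev m F A = fromBlocks (A : Matrix (Fin m) (Fin m) F) 0 0
    (((A⁻¹ : GL (Fin m) F) : Matrix (Fin m) (Fin m) F)ᵀ) := rfl

theorem lev_injective : Function.Injective (lev m F) := by
  intro A B h
  rw [lev_apply, lev_apply, fromBlocks_inj] at h
  exact Units.ext h.1

/-- `GL_m → Sp_{2m}`. -/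
def levSp (m : ℕ) (F : Type*) [Field F] : GL (Fin m) F →* symplecticGroup (Fin m) F :=
  (lev m F).codRestrict _ (fun A => by
    rw [SymplecticGroup.mem_iff, lev_apply, Matrix.J, fromBlocks_transpose, fromBlocks_multiply,
      fromBlocks_multiply]
    have h1 : (A : Matrix (Fin m) (Fin m) F) * ((A⁻¹ : GL (Fin m) F) : Matrix (Fin m) (Fin m) F) = 1 := by
      rw [← Units.val_mul, mul_inv_cancel, Units.val_one]
    have h2 : ((A⁻¹ : GL (Fin m) F) : Matrix (Fin m) (Fin m) F)ᵀ * (A : Matrix (Fin m) (Fin m) F)ᵀ = 1 := by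
      rw [← transpose_mul, h1, transpose_one]
    simp only [mul_zero, zero_mul, add_zero, zero_add, transpose_zero, transpose_transpose, mul_neg, mul_one,
      neg_mul, h1, h2, neg_zero])

theorem levSp_injective : Function.Injective (levSp m F) := by
  intro A B h
  exact lev_injective (congrArg Subtype.val h)

/-- `PSp_{2m}(q)`, `m ≥ 2`. -/
theorem psp [Fintype F] (hm : 2 ≤ m) (hsimple : IsSimpleGroup (Cfsg.PSp m F)) (H : Subgroup (Cfsg.PSp m F))
    (hH : H ≠ ⊤) : Fintype.card F ^ (m - 1) ≤ H.index := by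
  obtain ⟨i0, j0, hij⟩ := Fintype.one_lt_card_iff.1 (show 1 < Fintype.card (Fin m) by rw [Fintype.card_fin]; omega)
  haveI : Finite (symplecticGroup (Fin m) F) := Subtype.finite
  haveI : Finite (Cfsg.PSp m F) := inferInstance
  have hnc : SpecialLinearGroup.toGL (tr (Pi.single i0 1 : Fin m → F) (Pi.single j0 1) (hs_of hij)) *
      SpecialLinearGroup.toGL (tr (Pi.single j0 1 : Fin m → F) (Pi.single i0 1) (hs_of hij.symm)) ≠
      SpecialLinearGroup.toGL (tr (Pi.single j0 1 : Fin m → F) (Pi.single i0 1) (hs_of hij.symm)) *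
      SpecialLinearGroup.toGL (tr (Pi.single i0 1 : Fin m → F) (Pi.single j0 1) (hs_of hij)) := by
    rw [← map_mul, ← map_mul]
    intro h
    exact not_comm hij (Subtype.ext (congrArg (fun g : GL (Fin m) F => (g : Matrix (Fin m) (Fin m) F)) h))
  have h1 := pow_le_index_GL ((QuotientGroup.mk' (Subgroup.center (symplecticGroup (Fin m) F))).comp (levSp m F))
    hij (hs_of hij) (ne_one_of_not_comm (levSp m F) levSp_injective hnc) H hH
  rwa [Fintype.card_fin] at h1

theorem lev_mulVec (A : GL (Fin m) F) (v : Fin m ⊕ Fin m → F) : lev m F A *ᵥ v =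
    Sum.elim ((A : Matrix (Fin m) (Fin m) F) *ᵥ (v ∘ Sum.inl))
      ((((A⁻¹ : GL (Fin m) F) : Matrix (Fin m) (Fin m) F)ᵀ) *ᵥ (v ∘ Sum.inr)) := by
  rw [lev_apply, fromBlocks_mulVec]
  simp

theorem dot_lev (A : GL (Fin m) F) (x y : Fin m → F) :
    ((A : Matrix (Fin m) (Fin m) F) *ᵥ x) ⬝ᵥ (((A⁻¹ : GL (Fin m) F) : Matrix (Fin m) (Fin m) F)ᵀ *ᵥ y) = x ⬝ᵥ y := by
  rw [mulVec_transpose, dotProduct_comm, ← dotProduct_mulVec, mulVec_mulVec, ← Units.val_mul, inv_mul_cancel,
    Units.val_one, one_mulVec, dotProduct_comm]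

theorem quadFormPlus_lev (A : GL (Fin m) F) (v : Fin m ⊕ Fin m → F) :
    Cfsg.quadFormPlus m F (lev m F A *ᵥ v) = Cfsg.quadFormPlus m F v := by
  have h := dot_lev A (v ∘ Sum.inl) (v ∘ Sum.inr)
  rw [lev_mulVec]
  exact h

end lev

section orth

variable {m : ℕ} {F : Type*} [Field F]

/-- General principle for orthogonal groups. -/
theorem pomega_of_hom [Fintype F] {ι : Type} [Fintype ι] [DecidableEq ι] (Q : (ι → F) → F)
    (hsimple : IsSimpleGroup (Cfsg.POmega F Q)) (hm : 3 ≤ m) (j : GL (Fin m) F →* Matrix ι ι F)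
    (hj : Function.Injective j) (hQ : ∀ A v, Q (j A *ᵥ v) = Q v) (H : Subgroup (Cfsg.POmega F Q)) (hH : H ≠ ⊤) :
    Fintype.card F ^ (m - 1) ≤ H.index := by
  classical
  let j1 : GL (Fin m) F →* GL ι F := j.toHomUnits
  have hj1 : ∀ A, ((j1 A : GL ι F) : Matrix ι ι F) = j A := fun A => rfl
  let j2 : GL (Fin m) F →* Cfsg.isometryGroup F Q := j1.codRestrict _ (fun A => by
    intro u v
    exact hQ A u)
  let j3 : SpecialLinearGroup (Fin m) F →* Cfsg.isometryGroup F Q := j2.comp SpecialLinearGroup.toGL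
  have hperf : commutator (SpecialLinearGroup (Fin m) F) = ⊤ :=
    Cfsg.Agent.LieClassical.SLGen.commutator_eq_top (by rwa [Fintype.card_fin])
  let j4 : SpecialLinearGroup (Fin m) F →* Cfsg.Omega F Q :=
    j3.codRestrict _ (fun A => mem_commutator_of_perfect hperf j3 A)
  have hj4 : Function.Injective j4 := by
    intro A B h
    have h1 : j3 A = j3 B := congrArg Subtype.val h
    have h2 : j1 (SpecialLinearGroup.toGL A) = j1 (SpecialLinearGroup.toGL B) := congrArg Subtype.val h1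
    have h3 : j (SpecialLinearGroup.toGL A) = j (SpecialLinearGroup.toGL B) := congrArg Units.val h2
    exact Subtype.ext (congrArg (fun g : GL (Fin m) F => (g : Matrix (Fin m) (Fin m) F)) (hj h3))
  obtain ⟨i0, j0, hij⟩ := Fintype.one_lt_card_iff.1 (show 1 < Fintype.card (Fin m) by rw [Fintype.card_fin]; omega)
  haveI : Finite (Cfsg.isometryGroup F Q) := inferInstance
  haveI : Finite (Cfsg.POmega F Q) := inferInstance
  have h1 := pow_le_index_SL (ι := Fin m) (by rwa [Fintype.card_fin])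
    ((QuotientGroup.mk' (Subgroup.center (Cfsg.Omega F Q))).comp j4)
    (hs_of hij) (ne_one_of_not_comm j4 hj4 (not_comm hij)) H hH
  rwa [Fintype.card_fin] at h1

/-- `PΩ⁺_{2m}(q)`, `m ≥ 3`. -/
theorem pomega_plus [Fintype F] (hm : 3 ≤ m) (hsimple : IsSimpleGroup (Cfsg.POmega F (Cfsg.quadFormPlus m F)))
    (H : Subgroup (Cfsg.POmega F (Cfsg.quadFormPlus m F))) (hH : H ≠ ⊤) : Fintype.card F ^ (m - 1) ≤ H.index :=
  pomega_of_hom _ hsimple hm (lev m F) lev_injective quadFormPlus_lev H hH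

/-- `1 ⊕ M`. -/
def pre (κ ι F : Type*) [Fintype ι] [DecidableEq ι] [Fintype κ] [DecidableEq κ] [Field F] :
    Matrix ι ι F →* Matrix (κ ⊕ ι) (κ ⊕ ι) F where
  toFun A := fromBlocks 1 0 0 A
  map_one' := by simp
  map_mul' A B := by
    rw [fromBlocks_multiply]
    simp

/-- `M ⊕ 1`. -/
def post (κ ι F : Type*) [Fintype ι] [DecidableEq ι] [Fintype κ] [DecidableEq κ] [Field F] :
    Matrix ι ι F →* Matrix (ι ⊕ κ) (ι ⊕ κ) F where
  toFun A := fromBlocks A 0 0 1
  map_one' := by simp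
  map_mul' A B := by
    rw [fromBlocks_multiply]
    simp

/-- `PΩ_{2m+1}(q)`, `m ≥ 3`. -/
theorem pomega_odd [Fintype F] (hm : 3 ≤ m) (hsimple : IsSimpleGroup (Cfsg.POmega F (Cfsg.quadFormOdd m F)))
    (H : Subgroup (Cfsg.POmega F (Cfsg.quadFormOdd m F))) (hH : H ≠ ⊤) : Fintype.card F ^ (m - 1) ≤ H.index := by
  refine pomega_of_hom _ hsimple hm ((pre Unit (Fin m ⊕ Fin m) F).comp (lev m F)) ?_ ?_ H hH
  · intro A B h
    have h1 : fromBlocks (1 : Matrix Unit Unit F) 0 0 (lev m F A) = fromBlocks 1 0 0 (lev m F B) := h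
    rw [fromBlocks_inj] at h1
    exact lev_injective h1.2.2.2
  · intro A v
    have h1 : ((pre Unit (Fin m ⊕ Fin m) F).comp (lev m F)) A *ᵥ v =
        Sum.elim (v ∘ Sum.inl) (lev m F A *ᵥ (v ∘ Sum.inr)) := by
      show fromBlocks (1 : Matrix Unit Unit F) 0 0 (lev m F A) *ᵥ v = _
      rw [fromBlocks_mulVec]
      simp
    rw [h1]
    have h2 := quadFormPlus_lev A (v ∘ Sum.inr)
    show v (Sum.inl ()) ^ 2 + Cfsg.quadFormPlus m F (lev m F A *ᵥ (v ∘ Sum.inr)) =
      v (Sum.inl ()) ^ 2 + Cfsg.quadFormPlus m F (v ∘ Sum.inr)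
    rw [h2]

/-- `PΩ⁻_{2m+2}(q)`, `m ≥ 3`. -/
theorem pomega_minus [Fintype F] (hm : 3 ≤ m) (a b : F)
    (hsimple : IsSimpleGroup (Cfsg.POmega F (Cfsg.quadFormMinus m F a b)))
    (H : Subgroup (Cfsg.POmega F (Cfsg.quadFormMinus m F a b))) (hH : H ≠ ⊤) : Fintype.card F ^ (m - 1) ≤ H.index := by
  refine pomega_of_hom _ hsimple hm ((post (Fin 2) (Fin m ⊕ Fin m) F).comp (lev m F)) ?_ ?_ H hH
  · intro A B h
    have h1 : fromBlocks (lev m F A) 0 0 (1 : Matrix (Fin 2) (Fin 2) F) = fromBlocks (lev m F B) 0 0 1 := h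
    rw [fromBlocks_inj] at h1
    exact lev_injective h1.1
  · intro A v
    have h1 : ((post (Fin 2) (Fin m ⊕ Fin m) F).comp (lev m F)) A *ᵥ v =
        Sum.elim (lev m F A *ᵥ (v ∘ Sum.inl)) (v ∘ Sum.inr) := by
      show fromBlocks (lev m F A) 0 0 (1 : Matrix (Fin 2) (Fin 2) F) *ᵥ v = _
      rw [fromBlocks_mulVec]
      simp
    rw [h1]
    have h2 := quadFormPlus_lev A (v ∘ Sum.inl)
    show Cfsg.quadFormPlus m F (lev m F A *ᵥ (v ∘ Sum.inl)) + _ = Cfsg.quadFormPlus m F (v ∘ Sum.inl) + _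
    rw [h2]
    rfl

end orth

end Cfsg.Agent.H934.IdxCl
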