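import Mathlib
import Cfsg.Agent.H934.HeisChev
import Cfsg.Agent.S1082

/-!
# The special group `q^{1+8}` of `D₄(q)`

Every proper subgroup of `PΩ₈⁺(q)` has index at least `2 q⁵`, and at least `q⁶ / 2`.
-/

set_option autoImplicit false

namespace Cfsg.Agent.H934.HeisD4

open Cfsg.Lie Cfsg.Agent.ChevalleyStructure.Elts Cfsg.Agent.H934.HeisRoot Cfsg.Agent.H934.HeisChev

/-- list look-up -/
def at' {α : Type} (d : α) : List α → ℕ → α
  | [], _ => d
  | a :: _, 0 => a
  | _ :: l, n + 1 => at' d l n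

/-- decode: 0 is `none` -/
def dec8 (a : ℕ) : Option (Fin 8) := if h : 1 ≤ a ∧ a ≤ 8 then some ⟨a - 1, by omega⟩ else none

/-- The tables of `D₄`. -/
def tab : HTab 8 6 where
  S := fun i => at' 0 [14, 15, 16, 17, 19, 20, 21, 22] i
  th := 23
  B := fun i => at' 0 [12, 13, 18, 11, 10, 5] i
  opp := fun i => ⟨7 - i, by omega⟩
  e := fun i => at' 0 [-1, 1, 1, -1, 1, -1, -1, 1] i
  next := fun b i => dec8 (at' 0 (at' [] [[2, 0, 4, 0, 6, 0, 8, 0], [3, 4, 0, 0, 7, 8, 0, 0], [5, 6, 7, 8, 0, 0, 0, 0],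
    [0, 1, 0, 3, 0, 5, 0, 7], [0, 0, 1, 2, 0, 0, 5, 6], [0, 0, 0, 0, 1, 2, 3, 4]] b) i)
  cc := fun b i => at' 0 (at' [] [[-1, 1, -1, 1, -1, 1, -1, 1], [-1, -1, 1, 1, -1, -1, 1, 1], [1, 1, 1, 1, 1, 1, 1, 1],
    [1, -1, 1, -1, 1, -1, 1, -1], [1, 1, -1, -1, 1, 1, -1, -1], [1, 1, 1, 1, 1, 1, 1, 1]] b) i
  ng := fun b => ⟨((b : ℕ) + 3) % 6, Nat.mod_lt _ (by norm_num)⟩
  p := 1

/-- path from the vertex `i` to the vertex `j` of the cube -/
def path (i j : Fin 8) : List (Fin 6) :=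
  (if i.val % 2 = 0 ∧ j.val % 2 = 1 then [0] else if i.val % 2 = 1 ∧ j.val % 2 = 0 then [3] else []) ++
  (if i.val / 2 % 2 = 0 ∧ j.val / 2 % 2 = 1 then [1] else if i.val / 2 % 2 = 1 ∧ j.val / 2 % 2 = 0 then [4] else []) ++
  (if i.val / 4 = 0 ∧ j.val / 4 = 1 then [2] else if i.val / 4 = 1 ∧ j.val / 4 = 0 then [5] else [])

theorem tab_ok : tab.Ok chevD4 where
  S_lt := by decide +kernel
  th_lt := by decide +kernel
  B_lt := by decide +kernel
  th_ne := by decide +kernel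
  th_ne' := by decide +kernel
  S_ne := by decide +kernel
  opp_ne := by decide +kernel
  opp_opp := by decide +kernel
  e_sq := by decide +kernel
  B_ne := by decide +kernel
  c_sq := by decide +kernel
  B_comm := by decide +kernel
  ng_spec := by decide +kernel
  p_lt := by decide +kernel
  p_th := by decide +kernel
  iso := fun i => ⟨path i (tab.opp i), tab.opp i, by revert i; decide +kernel⟩
  conn := fun i j => ⟨path i j, by revert i j; decide +kernel⟩

theorem hD : InList chevD4 := by simp [InList]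

universe u

/-- `PΩ₈⁺(q)`: the basic bound. -/
theorem four_le {F : Type u} [Field F] [Fintype F]
    (hs : IsSimpleGroup (Cfsg.POmega F (Cfsg.quadFormPlus 4 F)))
    (H : Subgroup (Cfsg.POmega F (Cfsg.quadFormPlus 4 F))) (hH : H ≠ ⊤) :
    4 * Fintype.card F ^ 10 ≤ H.index ^ 2 := by
  obtain ⟨e⟩ := Cfsg.Agent.S1082.result (F := F)
  have : Finite (Cfsg.isometryGroup F (Cfsg.quadFormPlus 4 F)) := inferInstance
  have : Finite (Cfsg.POmega F (Cfsg.quadFormPlus 4 F)) := inferInstance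
  have hq : 2 ≤ Fintype.card F := Fintype.one_lt_card
  rcases bound hD tab tab_ok (by norm_num) (e : ↥(chevD4.group F) →* _) e.injective hH 2 (Or.inl rfl) with h | h
  · have h1 := Nat.pow_le_pow_left h 2
    refine le_trans ?_ h1
    rw [← pow_mul]
    calc 4 * Fintype.card F ^ 10 ≤ Fintype.card F ^ 2 * Fintype.card F ^ 10 := by
          apply Nat.mul_le_mul_right
          nlinarith
      _ = Fintype.card F ^ 12 := by ring
      _ ≤ _ := Nat.pow_le_pow_right (by omega) (by norm_num)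
  · exact h

/-- `PΩ₈⁺(q)`, `q` odd or even. -/
theorem pow_six_le {F : Type u} [Field F] [Fintype F]
    (hs : IsSimpleGroup (Cfsg.POmega F (Cfsg.quadFormPlus 4 F)))
    (H : Subgroup (Cfsg.POmega F (Cfsg.quadFormPlus 4 F))) (hH : H ≠ ⊤) :
    Fintype.card F ^ 6 ≤ 2 * H.index := by
  obtain ⟨e⟩ := Cfsg.Agent.S1082.result (F := F)
  have : Finite (Cfsg.isometryGroup F (Cfsg.quadFormPlus 4 F)) := inferInstance
  have : Finite (Cfsg.POmega F (Cfsg.quadFormPlus 4 F)) := inferInstance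
  have hq : 2 ≤ Fintype.card F := Fintype.one_lt_card
  rcases bound hD tab tab_ok (by norm_num) (e : ↥(chevD4.group F) →* _) e.injective hH ((Fintype.card F + 1) / 2)
    (Or.inr (Nat.mul_div_le _ _)) with h | h
  · have h1 : Fintype.card F ^ 6 ≤ Fintype.card F ^ (8 + 1) := Nat.pow_le_pow_right (by omega) (by norm_num)
    omega
  · have h2 : Fintype.card F ≤ 2 * ((Fintype.card F + 1) / 2) := by omega
    have h3 : (Fintype.card F ^ 6) ^ 2 ≤ (2 * H.index) ^ 2 := by
      calc (Fintype.card F ^ 6) ^ 2 = Fintype.card F ^ 2 * Fintype.card F ^ 10 := by ring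
        _ ≤ (2 * ((Fintype.card F + 1) / 2)) ^ 2 * Fintype.card F ^ 10 :=
          Nat.mul_le_mul_right _ (Nat.pow_le_pow_left h2 2)
        _ = 4 * (((Fintype.card F + 1) / 2) ^ 2 * Fintype.card F ^ (8 + 2)) := by ring
        _ ≤ 4 * H.index ^ 2 := Nat.mul_le_mul_left _ h
        _ = _ := by ring
    exact (Nat.pow_le_pow_iff_left (by norm_num)).1 h3

end Cfsg.Agent.H934.HeisD4
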