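import Mathlib
import Cfsg.Agent.ClassicalGeometry.PSUAutSylow
import Cfsg.Agent.ClassicalGeometry.UnitTransv
import Cfsg.Agent.H934.Heis

/-!
# The index of a proper subgroup of `PSU_n(q)`, `n ≥ 3`, is at least `q ^ (n - 1)`
-/

set_option autoImplicit false

namespace Cfsg.Agent.H934.IdxPSU

open Cfsg MulAction Cfsg.Agent.LieClassical.HermBasic Cfsg.Agent.LieClassical.HermSiegel
  Cfsg.Agent.LieClassical.HermGen Cfsg.Agent.LieClassical.SUBasic Cfsg.Agent.ClassicalGeometry.PSUAutBasic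
  Cfsg.Agent.ClassicalGeometry.PSUAutSylow Cfsg.Agent.H934.Burn Matrix

variable {F : Type*} [Field F] [Fintype F] {q n : ℕ}

/-- The commutator of two Siegel transformations. -/
theorem siegel_comm (hF : Fintype.card F = q ^ 2) {u w w' : Fin n → F} {μ μ' : F} (h : IsSiegel q u w μ)
    (h' : IsSiegel q u w' μ') {ν : F} (hν : ν + ν ^ q = 0) (he : hermForm n F q w w' - hermForm n F q w' w = ν) :
    siegel hF u w μ h * siegel hF u w' μ' h' * (siegel hF u w μ h)⁻¹ * (siegel hF u w' μ' h')⁻¹ =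
      transv hF u h.iso ν hν := by
  have h1 : siegel hF u w μ h * siegel hF u w' μ' h' =
      transv hF u h.iso ν hν * (siegel hF u w' μ' h' * siegel hF u w μ h) := by
    unfold transv
    rw [siegel_mul hF h h', siegel_mul hF h' h, siegel_mul hF _ (h'.mul hF h)]
    apply siegel_congr hF _ _ rfl
    · rw [zero_add, add_comm]
    · rw [herm_zero_right hF, ← he]; ring
  rw [h1]; group

/-- Siegel transformations commute with transvections. -/
theorem transv_comm (hF : Fintype.card F = q ^ 2) {u w : Fin n → F} {μ : F} (h : IsSiegel q u w μ)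
    {ν : F} (hν : ν + ν ^ q = 0) : siegel hF u w μ h * transv hF u h.iso ν hν =
      transv hF u h.iso ν hν * siegel hF u w μ h := by
  unfold transv
  rw [siegel_mul hF h _, siegel_mul hF _ h]
  apply siegel_congr hF _ _ rfl
  · rw [zero_add, add_zero]
  · rw [herm_zero_right hF, herm_zero_left]; ring

theorem trace_zero_sub (hF : Fintype.card F = q ^ 2) (w w' : Fin n → F) :
    (hermForm n F q w w' - hermForm n F q w' w) + (hermForm n F q w w' - hermForm n F q w' w) ^ q = 0 := by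
  rw [sub_pow_q hF, ← herm_swap hF w w', ← herm_swap hF w' w]; ring

/-- All nonidentity transvections are conjugate. -/
theorem transv_isConj (hF : Fintype.card F = q ^ 2) (hn : 3 ≤ n) {u : Fin n → F} (hu0 : u ≠ 0)
    (hu : hermForm n F q u u = 0) {μ ν : F} (hμ : μ + μ ^ q = 0) (hν : ν + ν ^ q = 0) (hμ0 : μ ≠ 0) (hν0 : ν ≠ 0) :
    IsConj (transv hF u hu μ hμ) (transv hF u hu ν hν) := by
  have h1 : (ν / μ) ^ q = ν / μ := by
    have h2 : μ ^ q = -μ := by linear_combination hμ
    have h3 : ν ^ q = -ν := by linear_combination hν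
    rw [div_pow, h2, h3, neg_div_neg_eq]
  obtain ⟨c, hc0, hc⟩ := exists_norm_eq_ne hF h1 (div_ne_zero hν0 hμ0)
  have hcu : hermForm n F q (c • u) (c • u) = 0 := by
    rw [herm_smul_left, herm_smul_right, hu]; ring
  obtain ⟨g, -, hg⟩ := exists_map_iso hF hn le_rfl (mem_coordSub_top u) (mem_coordSub_top (c • u)) hu0
    (smul_ne_zero hc0 hu0) hu hcu
  rw [isConj_iff]
  refine ⟨g, ?_⟩
  unfold transv
  rw [conj_siegel]
  have h4 : IsSiegel q (c • u) (0 : Fin n → F) μ := (isSiegel_zero hu hμ).smul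
  rw [siegel_congr hF _ h4 hg (act_zero g) rfl, siegel_smul hF (isSiegel_zero hu hμ)]
  apply siegel_congr hF _ _ rfl
  · rw [smul_zero]
  · rw [hc]; field_simp

theorem transv_eq_one (hF : Fintype.card F = q ^ 2) {u : Fin n → F} (hu : hermForm n F q u u = 0) {μ : F}
    (hμ : μ + μ ^ q = 0) (h0 : μ = 0) : transv hF u hu μ hμ = 1 := by
  subst h0
  exact transv_zero hF hu _

/-- The Siegel group is special. -/
theorem hyp (hF : Fintype.card F = q ^ 2) {u : Fin n → F} (hu0 : u ≠ 0) (hu : hermForm n F q u u = 0) :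
    Heis.Hyp ((transvG hF u hu).subgroupOf (siegG hF u hu)) (⊤ : Subgroup (siegG hF u hu)) where
  le := le_top
  central := by
    rintro ⟨z, hz'⟩ hz ⟨g, hg⟩
    rw [Subgroup.mem_subgroupOf] at hz
    obtain ⟨ν, hν, rfl⟩ := mem_transvG.1 hz
    obtain ⟨w, μ, h, rfl⟩ := mem_siegG.1 hg
    exact Subtype.ext (transv_comm hF h hν)
  comm_mem := by
    rintro ⟨x, hx⟩ - ⟨y, hy⟩ -
    obtain ⟨w, μ, h, rfl⟩ := mem_siegG.1 hx
    obtain ⟨w', μ', h', rfl⟩ := mem_siegG.1 hy
    rw [Subgroup.mem_subgroupOf]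
    show siegel hF u w μ h * siegel hF u w' μ' h' * (siegel hF u w μ h)⁻¹ * (siegel hF u w' μ' h')⁻¹ ∈ transvG hF u hu
    rw [siegel_comm hF h h' (trace_zero_sub hF w w') rfl]
    exact mem_transvG.2 ⟨_, _, rfl⟩
  special := by
    rintro ⟨x, hx⟩ - hxZ ⟨z, hz'⟩ hz
    rw [Subgroup.mem_subgroupOf] at hz hxZ
    obtain ⟨ν, hν, rfl⟩ := mem_transvG.1 hz
    obtain ⟨w, μ, h, rfl⟩ := mem_siegG.1 hx
    obtain ⟨f, hff, huf, hfu⟩ := exists_partner hF hu0 hu
    -- `w` is not a multiple of `u`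
    obtain ⟨v, hvu, hvw⟩ : ∃ v, hermForm n F q v u = 0 ∧ hermForm n F q v w ≠ 0 := by
      by_contra hcon
      push Not at hcon
      have h1 := exists_smul_of_perp_perp hF huf hfu hcon
      have h2 : IsSiegel q u ((hermForm n F q w f) • u) μ := h1 ▸ h
      apply hxZ
      show siegel hF u w μ h ∈ transvG hF u hu
      rw [siegel_congr hF h h2 rfl h1 rfl]
      exact siegel_smul_self_mem hF hu h2
    obtain ⟨y, hy⟩ := Cfsg.Agent.ClassicalGeometry.UnitTransv.exists_sub_pow_eq hF hν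
    -- `w' = c v` with `h(w, w') = y`
    have hwv : hermForm n F q w v ≠ 0 := fun h0 => hvw (herm_eq_zero_swap hF h0)
    set c : F := (y / hermForm n F q w v) ^ q with hc
    have hcq : c ^ q = y / hermForm n F q w v := pow_q_pow_q hF _
    set w' := c • v with hw'
    have h1 : hermForm n F q w w' = y := by
      rw [hw', herm_smul_right, hcq]; field_simp
    have h2 : hermForm n F q w' w = y ^ q := by rw [← h1, ← herm_swap hF]
    obtain ⟨μ', hμ'⟩ := exists_trace_eq hF (c := -hermForm n F q w' w') (by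
      rw [neg_pow_q hF, herm_self_pow hF])
    have h' : IsSiegel q u w' μ' := ⟨hu, by rw [hw', herm_smul_left, hvu, mul_zero], by rw [hμ']; ring⟩
    refine ⟨⟨siegel hF u w' μ' h', mem_siegG.2 ⟨_, _, _, rfl⟩⟩, Subgroup.mem_top _, Subtype.ext ?_⟩
    exact siegel_comm hF h h' hν (by rw [h1, h2, hy])

/-- Extension by zero. -/
def ext0 (n : ℕ) (x : Fin (n - 2) → F) : Fin n → F := fun i => if h : i.val < n - 2 then x ⟨i, h⟩ else 0

omit [Fintype F] in
theorem ext0_mem (x : Fin (n - 2) → F) : ext0 n x ∈ coordSub F n (n - 2) := by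
  intro i hi
  unfold ext0
  rw [dif_neg (by omega)]

omit [Fintype F] in
theorem ext0_inj : Function.Injective (ext0 n : (Fin (n - 2) → F) → Fin n → F) := by
  intro x y h
  ext i
  have h1 := congrFun h ⟨i.val, by omega⟩
  unfold ext0 at h1
  rw [dif_pos i.2, dif_pos i.2] at h1
  exact h1

theorem card_transvG_aux (hF : Fintype.card F = q ^ 2) {u : Fin n → F} (hu0 : u ≠ 0) (hu : hermForm n F q u u = 0)
    {c0 : F} (hc0 : c0 ≠ 0) (ht : ∀ x : {x : F // x ^ q = x}, c0 * (x : F) + (c0 * (x : F)) ^ q = 0) :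
    Function.Injective (fun x : {x : F // x ^ q = x} =>
      (⟨transv hF u hu (c0 * x) (ht x), mem_transvG.2 ⟨_, _, rfl⟩⟩ : transvG hF u hu)) := by
  intro x y hxy
  have h1 : transv hF u hu (c0 * x) (ht x) = transv hF u hu (c0 * y) (ht y) := congrArg Subtype.val hxy
  obtain ⟨f, hff, huf, hfu⟩ := exists_partner hF hu0 hu
  have h2 : act (transv hF u hu (c0 * x) (ht x)) f = act (transv hF u hu (c0 * y) (ht y)) f := by rw [h1]
  rw [act_transv, act_transv, hfu, mul_one, mul_one] at h2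
  have h3 := smul_left_injective F hu0 (add_left_cancel h2)
  exact Subtype.ext (mul_left_cancel₀ hc0 h3)

theorem card_transvG (hF : Fintype.card F = q ^ 2) {u : Fin n → F} (hu0 : u ≠ 0) (hu : hermForm n F q u u = 0) :
    q ≤ Nat.card (transvG hF u hu) := by
  obtain ⟨c0, hc0, hc⟩ := exists_trace_zero_ne hF
  have hcq : c0 ^ q = -c0 := by linear_combination hc
  have hq := card_fixed hF
  have ht : ∀ x : {x : F // x ^ q = x}, c0 * (x : F) + (c0 * (x : F)) ^ q = 0 := by
    intro x; rw [mul_pow, x.2, hcq]; ring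
  have key : Nat.card {x : F // x ^ q = x} ≤ Nat.card (transvG hF u hu) := by
    refine Nat.card_le_card_of_injective (fun x => ⟨transv hF u hu (c0 * x) (ht x), mem_transvG.2 ⟨_, _, rfl⟩⟩) ?_
    exact card_transvG_aux hF hu0 hu hc0 ht
  rwa [hq] at key

theorem card_siegG (hF : Fintype.card F = q ^ 2) {e f : Fin n → F} (H : IsFrame q e f) :
    (q ^ 2) ^ (n - 2) * q ≤ Nat.card (siegG hF e H.ee) := by
  obtain ⟨c0, hc0, hc⟩ := exists_trace_zero_ne hF
  have hcq : c0 ^ q = -c0 := by linear_combination hc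
  have he0 : e ≠ 0 := by
    rintro rfl
    have := H.ef
    rw [herm_zero_left] at this
    exact zero_ne_one this
  have hfe : hermForm n F q f e = 1 := by rw [herm_swap hF, H.ef, one_pow]
  have hcard : Nat.card ((Fin (n - 2) → F) × {x : F // x ^ q = x}) = (q ^ 2) ^ (n - 2) * q := by
    rw [Nat.card_prod, card_fixed hF, Nat.card_fun, Nat.card_eq_fintype_card, Nat.card_eq_fintype_card, hF,
      Fintype.card_fin]
  rw [← hcard]
  have htr : ∀ w : Fin n → F, ∃ μ : F, μ + μ ^ q = -hermForm n F q w w := fun w =>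
    exists_trace_eq hF (by rw [neg_pow_q hF, herm_self_pow hF])
  choose m hm using htr
  have hS : ∀ p : (Fin (n - 2) → F) × {x : F // x ^ q = x}, IsSiegel q e (ext0 n p.1) (m (ext0 n p.1) + c0 * p.2) := by
    intro p
    refine ⟨H.ee, ((H.mem _).1 (ext0_mem p.1)).1, ?_⟩
    rw [add_pow_q hF, mul_pow, p.2.2, hcq]
    linear_combination hm (ext0 n p.1)
  refine Nat.card_le_card_of_injective (fun p => ⟨siegel hF e _ _ (hS p), mem_siegG.2 ⟨_, _, _, rfl⟩⟩) ?_
  intro p p' hpp
  have h1 : siegel hF e _ _ (hS p) = siegel hF e _ _ (hS p') := congrArg Subtype.val hpp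
  have h2 : act (siegel hF e _ _ (hS p)) f = act (siegel hF e _ _ (hS p')) f := by rw [h1]
  have h3 : ∀ p : (Fin (n - 2) → F) × {x : F // x ^ q = x}, hermForm n F q f (ext0 n p.1) = 0 := fun p =>
    herm_eq_zero_swap hF ((H.mem _).1 (ext0_mem p.1)).2
  rw [act_siegel, act_siegel, hfe, h3 p, h3 p', one_smul, one_smul, add_assoc, add_assoc] at h2
  have h4 := add_left_cancel h2
  rw [mul_one, mul_one, sub_zero, sub_zero] at h4
  -- pair with `f`
  have h5 : ∀ p : (Fin (n - 2) → F) × {x : F // x ^ q = x}, hermForm n F q (ext0 n p.1) f = 0 := fun p =>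
    ((H.mem _).1 (ext0_mem p.1)).2
  have h6 := congrArg (fun v => hermForm n F q v f) h4
  simp only [herm_add_left, herm_smul_left, h5, H.ef, zero_add, mul_one] at h6
  rw [h6] at h4
  have h7 := ext0_inj (add_right_cancel h4)
  rw [h7] at h6
  have h8 := mul_left_cancel₀ hc0 (add_left_cancel h6)
  exact Prod.ext h7 (Subtype.ext h8)

/-- **The index of a proper subgroup of `PSU_n(q)`.** -/
theorem pow_le_index {X : Type*} [Group X] [Finite X] [IsSimpleGroup X] (hF : Fintype.card F = q ^ 2) (hn : 3 ≤ n)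
    (i : X ≃* PSU n F q) (H : Subgroup X) (hH : H ≠ ⊤) : q ^ (n - 1) ≤ H.index := by
  classical
  obtain ⟨e, f, hfr⟩ := exists_frame (F := F) (n := n) hF (by omega)
  have he0 : e ≠ 0 := by
    rintro rfl
    have := hfr.ef
    rw [herm_zero_left] at this
    exact zero_ne_one this
  have hfe : hermForm n F q f e = 1 := by rw [herm_swap hF, hfr.ef, one_pow]
  set π : SU n F q →* X := (i.symm : PSU n F q →* X).comp (pr n F q) with hπ
  obtain ⟨c0, hc0, hc⟩ := exists_trace_zero_ne hF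
  set t := transv hF e hfr.ee c0 hc with ht
  have hπt : π t ≠ 1 := by
    intro h1
    have h2 : pr n F q t = 1 := by
      have h3 : i.symm (pr n F q t) = 1 := h1
      exact (MulEquiv.map_eq_one_iff i.symm).1 h3
    rw [pr_eq_one_iff] at h2
    obtain ⟨c, -, -, hc'⟩ := exists_scalar_of_mem_center hF hn h2
    have h3 := hc' f
    rw [act_transv, hfe, mul_one] at h3
    have h4 := congrArg (fun v => hermForm n F q v f) h3
    simp only [herm_add_left, herm_smul_left, hfr.ff, hfr.ef, zero_add, mul_one, mul_zero] at h4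
    exact hc0 h4
  set Ω := Cos π H
  set c := fx Ω t with hcdef
  have hcc : ∀ z ∈ (transvG hF e hfr.ee).subgroupOf (siegG hF e hfr.ee), z ≠ 1 → fx Ω z = c := by
    intro z hz hz1
    rw [fx_coe, hcdef]
    apply fx_of_isConj
    rw [Subgroup.mem_subgroupOf] at hz
    obtain ⟨ν, hν, hzν⟩ := mem_transvG.1 hz
    have hν0 : ν ≠ 0 := fun h0 => hz1 (Subtype.ext (by rw [hzν, transv_eq_one hF hfr.ee hν h0]; rfl))
    rw [hzν, ht]
    exact transv_isConj hF hn he0 hfr.ee hν hc hν0 hc0
  have hlt : c < Nat.card Ω := fx_lt (exists_moved π hH hπt)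
  -- a nontrivial linear character
  have hyp0 := hyp hF he0 hfr.ee
  have htT : t ∈ transvG hF e hfr.ee := mem_transvG.2 ⟨c0, hc, rfl⟩
  obtain ⟨lam, hlam⟩ := hyp0.exists_char (t := ⟨t, transvG_le_siegG hF hfr.ee htT⟩) htT
    (fun h0 => hπt (by rw [show t = 1 from congrArg Subtype.val h0, map_one]))
  have hmain := Heis.sq_le hyp0 hlam c hcc hlt
  have hZ : q ≤ Nat.card ((transvG hF e hfr.ee).subgroupOf (siegG hF e hfr.ee)) := by
    rw [Nat.card_congr (Subgroup.subgroupOfEquivOfLe (transvG_le_siegG hF hfr.ee)).toEquiv]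
    exact card_transvG hF he0 hfr.ee
  have hQ : (q ^ 2) ^ (n - 2) * q ≤ Nat.card (⊤ : Subgroup (siegG hF e hfr.ee)) := by
    rw [Subgroup.card_top]
    exact card_siegG hF hfr
  have h1 : (q ^ (n - 1)) ^ 2 ≤ (Nat.card Ω - c) ^ 2 := by
    calc (q ^ (n - 1)) ^ 2 = q * ((q ^ 2) ^ (n - 2) * q) := by
          obtain ⟨k, rfl⟩ : ∃ k, n = k + 2 := ⟨n - 2, by omega⟩
          rw [Nat.add_sub_cancel, show k + 2 - 1 = k + 1 by omega]
          ring
      _ ≤ _ := (Nat.mul_le_mul hZ hQ).trans hmain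
  have h2 : q ^ (n - 1) ≤ Nat.card Ω - c := by
    by_contra hcon
    push Not at hcon
    have := Nat.pow_lt_pow_left hcon (n := 2) (by norm_num)
    omega
  have h3 : Nat.card Ω = H.index := card_cos π H
  omega

end Cfsg.Agent.H934.IdxPSU
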