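import Mathlib
import Cfsg.Agent.S0243
import Cfsg.Agent.S0813
import Cfsg.Agent.S0814
import Cfsg.Agent.S0815
import Cfsg.Agent.S0816
import Cfsg.Agent.S0817
import Cfsg.Agent.S0818
import Cfsg.Agent.ClassicalGeometry.PSL2Basic
import Cfsg.Agent.H934.OutB
import Cfsg.Agent.H934.IdxRoot
import Cfsg.Agent.H934.IdxCl
import Cfsg.Agent.H934.IdxPSU
import Cfsg.Agent.H934.HeisD4

/-!
# `2 ^ |Out X| ≤ |X : H| ^ 3` for the classical groups
-/

set_option autoImplicit false

namespace Cfsg.Agent.H934.OutCl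

open Cfsg.Agent.H934.OutB Matrix

universe u

variable {F : Type u} [Field F] [Fintype F]

/-- Characteristic and degree. -/
theorem exists_pf (F : Type u) [Field F] [Fintype F] : ∃ p f : ℕ, p.Prime ∧ 1 ≤ f ∧ Fintype.card F = p ^ f := by
  obtain ⟨n, hp, h⟩ := FiniteField.card F (ringChar F)
  exact ⟨ringChar F, n, hp, n.pos, h⟩

theorem card_pgl {n : ℕ} (hn : 2 ≤ n) : Nat.card (ProjGenLinGroup (Fin n) F) =
    Nat.gcd n (Fintype.card F - 1) * Nat.card (ProjectiveSpecialLinearGroup (Fin n) F) := by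
  classical
  haveI : NeZero n := ⟨by omega⟩
  have h1 := Cfsg.Agent.S0243.result (F := F) rfl n hn
  have h2 : Nat.card (ProjGenLinGroup (Fin n) F) * (Fintype.card F - 1) = Nat.card (GL (Fin n) F) :=
    Cfsg.Agent.ClassicalGeometry.PSL2Basic.card_PGL_mul (Fin n) F
  rw [Matrix.card_GL_field, ← h1] at h2
  have h3 : 0 < Fintype.card F - 1 := by
    have := Fintype.one_lt_card (α := F)
    omega
  have h4 : Nat.card (ProjGenLinGroup (Fin n) F) * (Fintype.card F - 1) =
    (Nat.gcd n (Fintype.card F - 1) * Nat.card (ProjectiveSpecialLinearGroup (Fin n) F)) * (Fintype.card F - 1) := by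
    rw [h2]; ring
  exact Nat.eq_of_mul_eq_mul_right h3 h4

theorem finite_psl (n : ℕ) : Finite (ProjectiveSpecialLinearGroup (Fin n) F) := by
  unfold ProjectiveSpecialLinearGroup
  infer_instance

theorem psl_ge_three {n : ℕ} (hn : 3 ≤ n) (hs : IsSimpleGroup (ProjectiveSpecialLinearGroup (Fin n) F))
    (hna : ¬ IsMulCommutative (ProjectiveSpecialLinearGroup (Fin n) F)) :
    Bd (ProjectiveSpecialLinearGroup (Fin n) F) := by
  obtain ⟨p, f, hp, hf, hF⟩ := exists_pf F
  have := Fact.mk hp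
  have := finite_psl (F := F) n
  have h1 := Cfsg.Agent.S0813.result (F := F) p f hf hF n (by omega) (by omega)
  rw [if_neg (by omega), card_pgl (by omega), ← mul_assoc] at h1
  have h2 := card_out_of_aut hna h1
  refine Bd.of_pow (N := 2 * n) (M := p ^ (n - 1)) (f := f) ?_ ?_ ?_
  · rw [h2]
    have : Nat.gcd n (Fintype.card F - 1) ≤ n := Nat.gcd_le_left _ (by omega)
    nlinarith
  · intro H hH
    have h3 := IdxCl.psl (ι := Fin n) (F := F) (by rwa [Fintype.card_fin]) hs H hH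
    rw [Fintype.card_fin, hF, ← pow_mul, mul_comm, pow_mul] at h3
    exact h3
  · rw [← pow_mul]
    calc 2 ^ (2 * n) ≤ 2 ^ ((n - 1) * 3) := Nat.pow_le_pow_right (by norm_num) (by omega)
      _ ≤ _ := Nat.pow_le_pow_left hp.two_le _

theorem psl_two (hs : IsSimpleGroup (ProjectiveSpecialLinearGroup (Fin 2) F))
    (hna : ¬ IsMulCommutative (ProjectiveSpecialLinearGroup (Fin 2) F)) (h4 : 4 ≤ Fintype.card F) :
    Bd (ProjectiveSpecialLinearGroup (Fin 2) F) := by
  obtain ⟨p, f, hp, hf, hF⟩ := exists_pf F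
  have := Fact.mk hp
  have := finite_psl (F := F) 2
  have h1 := Cfsg.Agent.S0813.result (F := F) p f hf hF 2 (by omega) (fun _ => by rw [← hF]; exact h4)
  rw [if_pos rfl, card_pgl (by omega), ← mul_assoc, one_mul] at h1
  have h2 := card_out_of_aut hna h1
  have hidx : ∀ H : Subgroup (ProjectiveSpecialLinearGroup (Fin 2) F), H ≠ ⊤ → Fintype.card F ≤ 2 * H.index := by
    intro H hH
    refine IdxRoot.card_le_two_mul (QuotientGroup.mk' (Subgroup.center (SpecialLinearGroup (Fin 2) F))) (t := 1) ?_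
      H hH
    intro h
    have h2 := (QuotientGroup.eq_one_iff _).1 h
    rw [Subgroup.mem_center_iff] at h2
    have h3 := congrArg (fun A : Matrix.SpecialLinearGroup (Fin 2) F => (A : Matrix (Fin 2) (Fin 2) F) 0 0)
      (h2 ⟨!![1, 0; 1, 1], by rw [Matrix.det_fin_two_of]; ring⟩)
    have h4 : ((!![(1 : F), 0; 1, 1] * !![(1 : F), 1; 0, 1] : Matrix (Fin 2) (Fin 2) F)) 0 0 =
      ((!![(1 : F), 1; 0, 1] * !![(1 : F), 0; 1, 1] : Matrix (Fin 2) (Fin 2) F)) 0 0 := h3
    rw [Matrix.mul_fin_two, Matrix.mul_fin_two] at h4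
    simp at h4
  rcases Nat.lt_or_ge f 2 with hf2 | hf2
  · have hf1 : f = 1 := by omega
    subst hf1
    apply Bd.of_le_six hna
    rw [h2]
    have : Nat.gcd 2 (Fintype.card F - 1) ≤ 2 := Nat.gcd_le_left _ (by omega)
    omega
  · intro H hH
    have h3 := hidx H hH
    rw [hF] at h3
    rcases hp.eq_two_or_odd with rfl | hodd
    · have h5 : Nat.gcd 2 (Fintype.card F - 1) = 1 := by
        rw [hF]
        have h6 : Odd (2 ^ f - 1) := by
          obtain ⟨k, rfl⟩ : ∃ k, f = k + 1 := ⟨f - 1, by omega⟩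
          have : 0 < 2 ^ k := by positivity
          rw [pow_succ]
          exact ⟨2 ^ k - 1, by omega⟩
        exact (Nat.coprime_two_left.2 h6)
      rw [h2, h5, mul_one]
      obtain ⟨k, rfl⟩ : ∃ k, f = k + 1 := ⟨f - 1, by omega⟩
      have h6 : 2 ^ k ≤ H.index := by rw [pow_succ] at h3; omega
      calc 2 ^ (k + 1) ≤ 2 ^ (k * 3) := Nat.pow_le_pow_right (by norm_num) (by omega)
        _ = (2 ^ k) ^ 3 := by rw [pow_mul]
        _ ≤ _ := Nat.pow_le_pow_left h6 3
    · have hp3 : 3 ≤ p := by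
        have := hp.two_le
        rcases this.eq_or_lt with h | h
        · subst h; simp at hodd
        · omega
      have h5 : Nat.gcd 2 (Fintype.card F - 1) ≤ 2 := Nat.gcd_le_left _ (by omega)
      have h6 : 2 ^ Nat.card (Cfsg.Out (ProjectiveSpecialLinearGroup (Fin 2) F)) ≤ 4 ^ f := by
        rw [h2, show (4 : ℕ) = 2 ^ 2 by norm_num, ← pow_mul]
        exact Nat.pow_le_pow_right (by norm_num) (by nlinarith)
      have h7 : (p ^ f) ^ 3 ≤ (2 * H.index) ^ 3 := Nat.pow_le_pow_left h3 3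
      have h8 : 27 ^ f ≤ (p ^ f) ^ 3 := by
        rw [← pow_mul, mul_comm, pow_mul]
        exact Nat.pow_le_pow_left (by calc 27 = 3 ^ 3 := by norm_num
            _ ≤ p ^ 3 := Nat.pow_le_pow_left hp3 3) f
      have h9 : 8 * 4 ^ f ≤ 27 ^ f := by
        obtain ⟨k, rfl⟩ : ∃ k, f = k + 2 := ⟨f - 2, by omega⟩
        have h10 : 4 ^ k ≤ 27 ^ k := Nat.pow_le_pow_left (by norm_num) k
        rw [pow_add, pow_add]
        generalize 4 ^ k = a at h10 ⊢
        generalize 27 ^ k = b at h10 ⊢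
        omega
      have h10 : (2 * H.index) ^ 3 = 8 * H.index ^ 3 := by ring
      omega

/-- `PSL_n(q)`. -/
theorem psl {n : ℕ} (hn : 2 ≤ n) (h4 : n = 2 → 4 ≤ Fintype.card F)
    (hs : IsSimpleGroup (ProjectiveSpecialLinearGroup (Fin n) F))
    (hna : ¬ IsMulCommutative (ProjectiveSpecialLinearGroup (Fin n) F)) :
    Bd (ProjectiveSpecialLinearGroup (Fin n) F) := by
  rcases hn.eq_or_lt with rfl | hn
  · exact psl_two hs hna (h4 rfl)
  · exact psl_ge_three hn hs hna

/-- `PSp_2m(q)`. -/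
theorem psp {m : ℕ} (hm : 2 ≤ m) (h3 : m = 2 → 3 ≤ Fintype.card F) (hs : IsSimpleGroup (Cfsg.PSp m F))
    (hna : ¬ IsMulCommutative (Cfsg.PSp m F)) : Bd (Cfsg.PSp m F) := by
  obtain ⟨p, f, hp, hf, hF⟩ := exists_pf F
  have := Fact.mk hp
  haveI : Finite (symplecticGroup (Fin m) F) := Subtype.finite
  haveI : Finite (Cfsg.PSp m F) := inferInstance
  have h1 := Cfsg.Agent.S0814.result (F := F) p f hf hF m hm (by rwa [hF] at h3)
  have h2 := card_out_of_aut hna h1
  refine Bd.of_pow (N := 2) (M := p) (f := f) ?_ ?_ ?_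
  · rw [h2]
    apply Nat.mul_le_mul_right
    split_ifs with h
    · obtain ⟨rfl, rfl⟩ := h
      have h6 : Odd (2 ^ f - 1) := by
        obtain ⟨k, rfl⟩ : ∃ k, f = k + 1 := ⟨f - 1, by omega⟩
        have : 0 < 2 ^ k := by positivity
        rw [pow_succ]
        exact ⟨2 ^ k - 1, by omega⟩
      rw [Nat.coprime_two_left.2 h6]
    · rw [one_mul]
      exact Nat.gcd_le_left _ (by norm_num)
  · intro H hH
    have h3 := IdxCl.psp hm hs H hH
    rw [hF] at h3
    exact (Nat.le_self_pow (by omega) _).trans h3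
  · calc 2 ^ 2 ≤ 2 ^ 3 := by norm_num
      _ ≤ _ := Nat.pow_le_pow_left hp.two_le _

/-- `PSU_n(q)`. -/
theorem psu {n q : ℕ} (hF : Fintype.card F = q ^ 2) (hn : 3 ≤ n) (h32 : ¬ (n = 3 ∧ q = 2))
    (hs : IsSimpleGroup (Cfsg.PSU n F q)) (hna : ¬ IsMulCommutative (Cfsg.PSU n F q)) : Bd (Cfsg.PSU n F q) := by
  obtain ⟨p, f', hp, hf', hF'⟩ := exists_pf F
  have := Fact.mk hp
  obtain ⟨f, -, hq⟩ : ∃ f ≤ f', q = p ^ f := (Nat.dvd_prime_pow hp).1 (by
    rw [← hF', hF]; exact dvd_pow_self q (by norm_num))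
  have hf : 1 ≤ f := by
    by_contra h0
    have : f = 0 := by omega
    subst this
    rw [hq, pow_zero, one_pow] at hF
    have := Fintype.one_lt_card (α := F)
    omega
  haveI : Finite (Cfsg.PSU n F q) := inferInstance
  have h1 := Cfsg.Agent.S0815.result (F := F) p f hf hq hF n hn h32
  have h2 := card_out_of_aut hna h1
  refine Bd.of_pow (N := 2 * n) (M := p ^ (n - 1)) (f := f) ?_ ?_ ?_
  · rw [h2]
    have : Nat.gcd n (q + 1) ≤ n := Nat.gcd_le_left _ (by omega)
    nlinarith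
  · intro H hH
    have h3 := IdxPSU.pow_le_index hF hn (MulEquiv.refl _) H hH
    have h4 : (p ^ (n - 1)) ^ f = q ^ (n - 1) := by
      rw [hq, ← pow_mul, ← pow_mul, mul_comm]
    rw [h4]
    exact h3
  · rw [← pow_mul]
    calc 2 ^ (2 * n) ≤ 2 ^ ((n - 1) * 3) := Nat.pow_le_pow_right (by norm_num) (by omega)
      _ ≤ _ := Nat.pow_le_pow_left hp.two_le _

/-- `PΩ_{2m+1}(q)`. -/
theorem pomega_odd {m : ℕ} (hm : 3 ≤ m) (hodd : Odd (Fintype.card F))
    (hs : IsSimpleGroup (Cfsg.POmega F (Cfsg.quadFormOdd m F)))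
    (hna : ¬ IsMulCommutative (Cfsg.POmega F (Cfsg.quadFormOdd m F))) :
    Bd (Cfsg.POmega F (Cfsg.quadFormOdd m F)) := by
  obtain ⟨p, f, hp, hf, hF⟩ := exists_pf F
  have := Fact.mk hp
  haveI : Finite (Cfsg.isometryGroup F (Cfsg.quadFormOdd m F)) := inferInstance
  haveI : Finite (Cfsg.POmega F (Cfsg.quadFormOdd m F)) := inferInstance
  have hpo : Odd p := by
    rw [hF] at hodd
    exact Nat.Odd.of_mul_left (n := p ^ (f - 1)) (by rwa [← pow_succ', Nat.sub_add_cancel hf])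
  have h1 := Cfsg.Agent.S0816.result (F := F) p f hf hF hpo m hm
  have h2 := card_out_of_aut hna h1
  refine Bd.of_pow (N := 2) (M := p) (f := f) ?_ ?_ ?_
  · rw [h2]
  · intro H hH
    have h3 := IdxCl.pomega_odd hm hs H hH
    rw [hF] at h3
    exact (Nat.le_self_pow (by omega) _).trans h3
  · calc 2 ^ 2 ≤ 2 ^ 3 := by norm_num
      _ ≤ _ := Nat.pow_le_pow_left hp.two_le _

/-- `PΩ⁺_{2m}(q)`. -/
theorem pomega_plus {m : ℕ} (hm : 4 ≤ m) (hs : IsSimpleGroup (Cfsg.POmega F (Cfsg.quadFormPlus m F)))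
    (hna : ¬ IsMulCommutative (Cfsg.POmega F (Cfsg.quadFormPlus m F))) :
    Bd (Cfsg.POmega F (Cfsg.quadFormPlus m F)) := by
  obtain ⟨p, f, hp, hf, hF⟩ := exists_pf F
  have := Fact.mk hp
  haveI : Finite (Cfsg.isometryGroup F (Cfsg.quadFormPlus m F)) := inferInstance
  haveI : Finite (Cfsg.POmega F (Cfsg.quadFormPlus m F)) := inferInstance
  have h1 := Cfsg.Agent.S0817.result (F := F) p f hf hF m hm
  have h2 := card_out_of_aut hna h1
  rcases hm.eq_or_lt with rfl | hm5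
  · rw [if_pos rfl] at h2
    rcases eq_or_ne p 2 with rfl | hp2
    · rw [if_pos rfl] at h2
      refine Bd.of_pow (N := 6) (M := 2 ^ 3) (f := f) ?_ ?_ ?_
      · rw [h2]
      · intro H hH
        have h3 := IdxCl.pomega_plus (by norm_num) hs H hH
        rw [hF, ← pow_mul, mul_comm, pow_mul] at h3
        exact h3
      · norm_num
    · have hp3 : 3 ≤ p := by
        have := hp.two_le
        omega
      intro H hH
      have h3 := HeisD4.pow_six_le hs H hH
      rw [if_neg hp2] at h2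
      have h4 : Nat.card (Cfsg.Out (Cfsg.POmega F (Cfsg.quadFormPlus 4 F))) ≤ 24 * f := by
        rw [h2]
        apply Nat.mul_le_mul_right
        split_ifs <;> norm_num
      have h5 : 2 ^ (8 * f) ≤ H.index := by
        have h6 : 729 ^ f ≤ Fintype.card F ^ 6 := by
          rw [hF, ← pow_mul, mul_comm f 6, pow_mul]
          exact Nat.pow_le_pow_left (by calc 729 = 3 ^ 6 := by norm_num
            _ ≤ p ^ 6 := Nat.pow_le_pow_left hp3 6) f
        have h7 : 2 * 256 ^ f ≤ 729 ^ f := by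
          obtain ⟨k, rfl⟩ : ∃ k, f = k + 1 := ⟨f - 1, by omega⟩
          have h8 : 256 ^ k ≤ 729 ^ k := Nat.pow_le_pow_left (by norm_num) k
          rw [pow_succ, pow_succ]
          generalize 256 ^ k = a at h8 ⊢
          generalize 729 ^ k = b at h8 ⊢
          omega
        rw [pow_mul]
        norm_num
        omega
      calc 2 ^ Nat.card (Cfsg.Out (Cfsg.POmega F (Cfsg.quadFormPlus 4 F))) ≤ 2 ^ (24 * f) :=
            Nat.pow_le_pow_right (by norm_num) h4
        _ = (2 ^ (8 * f)) ^ 3 := by rw [← pow_mul]; congr 1; ring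
        _ ≤ _ := Nat.pow_le_pow_left h5 3
  · rw [if_neg (by omega), one_mul] at h2
    refine Bd.of_pow (N := 8) (M := p ^ 4) (f := f) ?_ ?_ ?_
    · rw [h2]
      apply Nat.mul_le_mul_right
      split_ifs <;> norm_num
    · intro H hH
      have h3 := IdxCl.pomega_plus (by omega) hs H hH
      rw [hF] at h3
      refine le_trans ?_ h3
      rw [← pow_mul, ← pow_mul, mul_comm 4 f]
      exact Nat.pow_le_pow_right hp.pos (Nat.mul_le_mul_left _ (by omega))
    · calc 2 ^ 8 ≤ (2 ^ 4) ^ 3 := by norm_num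
        _ ≤ _ := Nat.pow_le_pow_left (Nat.pow_le_pow_left hp.two_le _) _

/-- `PΩ⁻_{2m}(q)`. -/
theorem pomega_minus {m : ℕ} (hm : 4 ≤ m) (a b : F)
    (hab : ∀ z₁ z₂ : F, z₁ ^ 2 + a * z₁ * z₂ + b * z₂ ^ 2 = 0 → z₁ = 0 ∧ z₂ = 0)
    (hs : IsSimpleGroup (Cfsg.POmega F (Cfsg.quadFormMinus (m - 1) F a b)))
    (hna : ¬ IsMulCommutative (Cfsg.POmega F (Cfsg.quadFormMinus (m - 1) F a b))) :
    Bd (Cfsg.POmega F (Cfsg.quadFormMinus (m - 1) F a b)) := by
  obtain ⟨p, f, hp, hf, hF⟩ := exists_pf F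
  have := Fact.mk hp
  haveI : Finite (Cfsg.isometryGroup F (Cfsg.quadFormMinus (m - 1) F a b)) := inferInstance
  haveI : Finite (Cfsg.POmega F (Cfsg.quadFormMinus (m - 1) F a b)) := inferInstance
  have h1 := Cfsg.Agent.S0818.result (F := F) p f hf hF m hm a b hab
  have h2 := card_out_of_aut hna h1
  have hidx : ∀ H : Subgroup (Cfsg.POmega F (Cfsg.quadFormMinus (m - 1) F a b)), H ≠ ⊤ → (p ^ 2) ^ f ≤ H.index := by
    intro H hH
    have h3 := IdxCl.pomega_minus (m := m - 1) (by omega) a b hs H hH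
    rw [hF] at h3
    refine le_trans ?_ h3
    rw [← pow_mul, ← pow_mul, mul_comm 2 f]
    exact Nat.pow_le_pow_right hp.pos (Nat.mul_le_mul_left _ (by omega))
  rcases eq_or_ne p 2 with rfl | hp2
  · rw [if_pos rfl] at h2
    refine Bd.of_pow (N := 2) (M := 2 ^ 2) (f := f) ?_ hidx ?_
    · rw [h2]
    · norm_num
  · rw [if_neg hp2] at h2
    refine Bd.of_pow (N := 8) (M := p ^ 2) (f := f) ?_ hidx ?_
    · rw [h2]
      apply Nat.mul_le_mul_right
      split_ifs <;> norm_num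
    · have hp3 : 3 ≤ p := by
        have := hp.two_le
        omega
      calc 2 ^ 8 ≤ (3 ^ 2) ^ 3 := by norm_num
        _ ≤ _ := Nat.pow_le_pow_left (Nat.pow_le_pow_left hp3 _) _

end Cfsg.Agent.H934.OutCl
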