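import Mathlib
import Cfsg.Agent.H934.HeisEC
import Cfsg.Agent.H934.HeisF4G2
import Cfsg.Agent.H934.ArfO
import Cfsg.Agent.ChevalleyStructure.UnipProd

/-!
# The smallest index of a proper subgroup of `F₄(q)`, `q ≥ 4` even

`Q = O₂(P)` for the parabolic subgroup `P` of the highest root is `E * X`, `E` elementary abelian of order `q^7`
(the six short roots and the highest root), `X` special of type `q^(1+8)`.
-/

set_option autoImplicit false

namespace Cfsg.Agent.H934.HeisF4Even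

open Cfsg.Lie Cfsg.Agent.ChevalleyStructure.Elts Cfsg.Agent.H934.HeisSq Cfsg.Agent.H934.HeisChev
  Cfsg.Agent.H934.HeisEC Cfsg.Agent.H934.HeisG Cfsg.Agent.H934.HeisF4G2 Cfsg.Agent.H934.ArfO

universe u

/-- The commutator terms with odd constants. -/
def ct2 (D : ChevalleyDatum) (r s : ℕ) : List (ℕ × ℕ × ℕ) :=
  (D.commTerms r s).filterMap fun c => if c.2.1 % 2 = 0 then none else some (c.1, c.2.2.1, c.2.2.2)

section Comm

variable {D : ChevalleyDatum} (hD : InList D) {F : Type u} [Field F] [CharP F 2]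

theorem cast_even {c : ℤ} (h : c % 2 = 0) : (c : F) = 0 := by
  obtain ⟨k, rfl⟩ := Int.dvd_of_emod_eq_zero h
  have h2 : (2 : F) = 0 := CharTwo.two_eq_zero
  push_cast
  rw [h2, zero_mul]

theorem cast_odd {c : ℤ} (h : ¬ c % 2 = 0) : (c : F) = 1 := by
  have h1 : c = 2 * (c / 2) + 1 := by omega
  have h2 : (2 : F) = 0 := CharTwo.two_eq_zero
  rw [h1]
  push_cast
  rw [h2, zero_mul, zero_add]

theorem word2 (t u : F) (L : List (ℕ × ℤ × ℕ × ℕ)) :
    D.wordMat F (L.map fun c => (c.1, (c.2.1 : F) * (-t) ^ c.2.2.1 * u ^ c.2.2.2)) =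
      ((((L.filterMap fun c => if c.2.1 % 2 = 0 then none else some (c.1, c.2.2.1, c.2.2.2)).map
        fun c => xe hD c.1 (t ^ c.2.1 * u ^ c.2.2)).prod : ↥(D.group F)) : GL D.Idx F).val := by
  induction L with
  | nil => rfl
  | cons c L ih =>
    rw [List.map_cons, wordMat_cons, ih, CharTwo.neg_eq]
    by_cases h : c.2.1 % 2 = 0
    · rw [List.filterMap_cons_none (by rw [if_pos h]), cast_even h, zero_mul, zero_mul, x_zero hD, one_mul]
    · rw [List.filterMap_cons_some (by rw [if_neg h]), cast_odd h, one_mul, List.map_cons, List.prod_cons]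
      rfl

theorem comm2 {r s : ℕ} (hr : r < D.nroots) (hs : s < D.nroots) (hrs : s ≠ r) (hneg : s ≠ D.neg r) (t u : F) :
    xe hD s u * xe hD r t =
      xe hD r t * xe hD s u * ((ct2 D r s).map fun c => xe hD c.1 (t ^ c.2.1 * u ^ c.2.2)).prod := by
  have h1 := Cfsg.Agent.S1025.result (F := F) D hD r s hr hs hrs hneg t u
  have h2 : D.commWord F r s t u = (D.commTerms r s).map
    fun c => (c.1, (c.2.1 : F) * (-t) ^ c.2.2.1 * u ^ c.2.2.2) := rfl
  rw [h2, word2 hD] at h1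
  exact Subtype.ext (Units.ext h1)

theorem comm2_nil {r s : ℕ} (hr : r < D.nroots) (hs : s < D.nroots) (hrs : s ≠ r) (hneg : s ≠ D.neg r)
    (h : ct2 D r s = []) (t u : F) : xe hD s u * xe hD r t = xe hD r t * xe hD s u := by
  rw [comm2 hD hr hs hrs hneg, h]
  simp

end Comm

/-- The long roots. -/
def tabL : HT 8 where
  S := ![24, 26, 31, 32, 42, 43, 45, 46]
  th := 47
  opp := fun i => ⟨7 - i, by omega⟩
  e := ![-1, -1, 1, -1, 1, -1, 1, 1]
  p := 3

theorem tabL_ok : tabL.Ok chevF4 where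
  S_lt := by decide +kernel
  th_lt := by decide +kernel
  th_ne := by decide +kernel
  S_ne := by decide +kernel
  opp_ne := by decide +kernel
  opp_opp := by decide +kernel
  p_lt := by decide +kernel
  p_th := by decide +kernel

/-- The roots of `E`. -/
def rE : Fin 7 → ℕ := ![29, 36, 38, 39, 40, 44, 47]

/-- The acting roots. -/
def gm : Fin 8 → ℕ := ![6, 41, 17, 30, 22, 25, 10, 19]

/-- The action. -/
def nx : Fin 8 → Fin 7 → Option (Fin 7) := fun g k =>
  match g, k with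
  | 0, 5 => some 0
  | 1, 0 => some 5
  | 2, 4 => some 1
  | 3, 1 => some 4
  | 4, 3 => some 2
  | 5, 2 => some 3
  | 6, 4 => some 0
  | 6, 5 => some 1
  | 7, 3 => some 1
  | 7, 4 => some 2
  | _, _ => none

theorem rE_lt : ∀ k, rE k < chevF4.nroots := by decide +kernel

theorem gm_lt : ∀ k, gm k < chevF4.nroots := by decide +kernel

theorem rE_ne : ∀ k l, k ≠ l → rE l ≠ rE k ∧ rE l ≠ chevF4.neg (rE k) ∧ ct2 chevF4 (rE k) (rE l) = [] := by
  decide +kernel

theorem S_rE : ∀ k i, tabL.S i ≠ rE k ∧ tabL.S i ≠ chevF4.neg (rE k) ∧ ct2 chevF4 (rE k) (tabL.S i) = [] := by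
  decide +kernel

theorem gm_rE : ∀ g k, gm g ≠ rE k ∧ gm g ≠ chevF4.neg (rE k) ∧ ct2 chevF4 (rE k) (gm g) =
    match nx g k with
    | none => []
    | some l => if (g : ℕ) < 6 then [(rE l, 1, 1), (47, 2, 1)] else [(rE l, 1, 1)] := by
  decide +kernel

theorem nx_nx : ∀ g k l, nx g k = some l → nx g l = none := by decide

/-- The abelian group. -/
abbrev EE (F : Type u) : Type u := Fin 7 → Multiplicative F

/-- A coordinate. -/
def sg {F : Type u} [Field F] (k : Fin 7) (v : F) : EE F := Pi.mulSingle k (Multiplicative.ofAdd v)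

section Emb

variable {F : Type u} [Field F]

/-- A root group. -/
noncomputable def xh (F : Type u) [Field F] (r : ℕ) : Multiplicative F →* ↥(chevF4.group F) where
  toFun := fun v => xe hF4 r (Multiplicative.toAdd v)
  map_one' := xe_zero hF4 r
  map_mul' := fun a b => xe_add hF4 r _ _

variable [CharP F 2]

/-- The embedding. -/
noncomputable def ii (F : Type u) [Field F] [CharP F 2] : EE F →* ↥(chevF4.group F) :=
  MonoidHom.noncommPiCoprod (fun k => xh F (rE k)) (by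
    intro k l hkl x y
    obtain ⟨h1, h2, h3⟩ := rE_ne k l hkl
    exact (comm2_nil hF4 (rE_lt k) (rE_lt l) h1 h2 h3 _ _).symm)

theorem ii_sg (k : Fin 7) (v : F) : ii F (sg k v) = xe hF4 (rE k) v := by
  exact MonoidHom.noncommPiCoprod_mulSingle _ _ _

theorem eq_prod (e : EE F) : e = sg 0 (Multiplicative.toAdd (e 0)) * (sg 1 (Multiplicative.toAdd (e 1)) *
    (sg 2 (Multiplicative.toAdd (e 2)) * (sg 3 (Multiplicative.toAdd (e 3)) * (sg 4 (Multiplicative.toAdd (e 4)) *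
      (sg 5 (Multiplicative.toAdd (e 5)) * sg 6 (Multiplicative.toAdd (e 6))))))) := by
  funext k
  fin_cases k <;> simp [sg, Pi.mulSingle_apply, Pi.mul_apply]

theorem ii_eq (e : EE F) : ii F e = xe hF4 29 (Multiplicative.toAdd (e 0)) * (xe hF4 36 (Multiplicative.toAdd (e 1)) *
    (xe hF4 38 (Multiplicative.toAdd (e 2)) * (xe hF4 39 (Multiplicative.toAdd (e 3)) *
      (xe hF4 40 (Multiplicative.toAdd (e 4)) * (xe hF4 44 (Multiplicative.toAdd (e 5)) *
        xe hF4 47 (Multiplicative.toAdd (e 6))))))) := by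
  conv_lhs => rw [eq_prod e]
  simp only [map_mul, ii_sg]
  rfl

/-- coefficients -/
def cf (e : EE F) (r : ℕ) : F :=
  match r with
  | 29 => Multiplicative.toAdd (e 0)
  | 36 => Multiplicative.toAdd (e 1)
  | 38 => Multiplicative.toAdd (e 2)
  | 39 => Multiplicative.toAdd (e 3)
  | 40 => Multiplicative.toAdd (e 4)
  | 44 => Multiplicative.toAdd (e 5)
  | 47 => Multiplicative.toAdd (e 6)
  | _ => 0

theorem ii_word (e : EE F) : (ii F e : GL chevF4.Idx F) =
    wordG hF4 ((Cfsg.Agent.ChevalleyStructure.UnipProd.rootsGE chevF4 29).map fun r => (r, cf e r)) := by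
  have h : Cfsg.Agent.ChevalleyStructure.UnipProd.rootsGE chevF4 29 =
    [29, 30, 31, 32, 33, 34, 35, 36, 37, 38, 39, 40, 41, 42, 43, 44, 45, 46, 47] := by decide +kernel
  rw [h, ii_eq]
  simp only [List.map_cons, List.map_nil, wordG_cons, wordG_nil, cf, xG_zero, one_mul, mul_one]
  rfl

theorem ii_inj : Function.Injective (ii F) := by
  intro e e' h
  have h1 : (ii F e : GL chevF4.Idx F) = ii F e' := congrArg Subtype.val h
  rw [ii_word, ii_word] at h1
  have h2 := Cfsg.Agent.ChevalleyStructure.UnipProd.prod_injective hF4 (by decide +kernel) h1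
  have h3 : ∀ k : Fin 7, cf e (rE k) = cf e' (rE k) := fun k => h2 _ (by revert k; decide) (rE_lt k)
  funext k
  have h4 := h3 k
  fin_cases k <;> exact h4

theorem comm_none {g : Fin 8} {l : Fin 7} (h : nx g l = none) (t v : F) :
    xe hF4 (gm g) t * xe hF4 (rE l) v = xe hF4 (rE l) v * xe hF4 (gm g) t := by
  obtain ⟨h1, h2, h3⟩ := gm_rE g l
  rw [h] at h3
  exact comm2_nil hF4 (rE_lt l) (gm_lt g) h1 h2 h3 v t

theorem nx_six : ∀ g, nx g 6 = none := by decide

/-- The image of a root element. -/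
def im (g : Fin 8) (t : F) (k : Fin 7) (v : F) : EE F :=
  match nx g k with
  | none => sg k v
  | some l => sg k v * (sg l (v * t) * (if (g : ℕ) < 6 then sg 6 (v ^ 2 * t) else 1))

theorem conj_sg (g : Fin 8) (t : F) (k : Fin 7) (v : F) :
    ii F (im g t k v) = xe hF4 (gm g) t * ii F (sg k v) * (xe hF4 (gm g) t)⁻¹ := by
  obtain ⟨h1, h2, h3⟩ := gm_rE g k
  have h4 := comm2 hF4 (rE_lt k) (gm_lt g) h1 h2 v t
  rw [ii_sg, eq_mul_inv_iff_mul_eq, h4, h3]
  unfold im
  cases hn : nx g k with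
  | none => simp [ii_sg]
  | some l =>
    have h5 := comm_none (nx_nx g k l hn) t (v * t)
    have h6 := comm_none (F := F) (nx_six g) t (v ^ 2 * t)
    dsimp only
    by_cases hg : (g : ℕ) < 6
    · rw [if_pos hg, if_pos hg, map_mul, map_mul, ii_sg, ii_sg, ii_sg]
      simp only [List.map_cons, List.map_nil, List.prod_cons, List.prod_nil, pow_one, mul_one]
      rw [mul_assoc (xe hF4 (rE k) v) (xe hF4 (gm g) t), ← mul_assoc (xe hF4 (gm g) t), h5, mul_assoc _ _ (xe hF4 47 _)]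
      have h7 : xe hF4 (gm g) t * xe hF4 47 (v ^ 2 * t) = xe hF4 47 (v ^ 2 * t) * xe hF4 (gm g) t := h6
      rw [h7]
      simp only [mul_assoc]
      rfl
    · rw [if_neg hg, if_neg hg, map_mul, map_mul, ii_sg, ii_sg, map_one]
      simp only [List.map_cons, List.map_nil, List.prod_cons, List.prod_nil, pow_one, mul_one]
      rw [mul_assoc (xe hF4 (rE k) v) (xe hF4 (gm g) t), h5]
      simp only [mul_assoc]

end Emb

section W

variable {X E : Type*} [Group X] [CommGroup E] [Finite E]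

theorem w_conj {i : E →* X} (hi : Function.Injective i) {w : (E →* ℂˣ) → ℕ}
    (hw : ∀ (g : X) (φ : E ≃* E), (∀ e, i (φ e) = g * i e * g⁻¹) → ∀ μ, w (μ.comp φ.toMonoidHom) = w μ)
    (g : X) (μ μ' : E →* ℂˣ) (h : ∀ e, ∃ e', i e' = g * i e * g⁻¹ ∧ μ e' = μ' e) : w μ' = w μ := by
  choose φ0 hφ0 using h
  let φ1 : E →* E :=
    { toFun := φ0
      map_one' := hi (by rw [(hφ0 1).1]; simp)
      map_mul' := fun a b => hi (by
        rw [map_mul, (hφ0 _).1, (hφ0 _).1, (hφ0 _).1, map_mul]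
        group) }
  have hinj : Function.Injective φ1 := by
    intro a b hab
    apply hi
    have h3 : i (φ0 a) = i (φ0 b) := congrArg i hab
    rw [(hφ0 a).1, (hφ0 b).1] at h3
    simpa using h3
  let φ : E ≃* E := MulEquiv.ofBijective φ1 ⟨hinj, Finite.injective_iff_surjective.1 hinj⟩
  have h4 := hw g φ (fun e => (hφ0 e).1) μ
  rw [← h4]
  congr 1
  ext e
  exact congrArg _ (hφ0 e).2.symm

end W

/-- The character of order 2. -/
def ch : Multiplicative (ZMod 2) →* ℂˣ where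
  toFun := fun a => if Multiplicative.toAdd a = 0 then 1 else -1
  map_one' := if_pos rfl
  map_mul' := by
    have h : ∀ x y : ZMod 2, (if x + y = 0 then (1 : ℂˣ) else -1) =
        (if x = 0 then 1 else -1) * (if y = 0 then 1 else -1) := by
      intro x y
      have hx : x = 0 ∨ x = 1 := by revert x; decide
      have hy : y = 0 ∨ y = 1 := by revert y; decide
      have h11 : (1 : ZMod 2) + 1 = 0 := by decide
      rcases hx with rfl | rfl <;> rcases hy with rfl | rfl <;> simp [h11]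
    exact fun a b => h _ _

theorem ch_inj {a b : ZMod 2} (h : ch (Multiplicative.ofAdd a) = ch (Multiplicative.ofAdd b)) : a = b := by
  have h01 : ∀ a : ZMod 2, a = 0 ∨ a = 1 := by decide
  have hx := h01 a
  have hy := h01 b
  have h1 : (1 : ℂˣ) ≠ -1 := by
    intro h
    have h2 : (1 : ℂ) = -1 := congrArg Units.val h
    norm_num at h2
  rcases hx with rfl | rfl <;> rcases hy with rfl | rfl
  · rfl
  · exact absurd h h1
  · exact absurd h.symm h1
  · rfl

section Mu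

variable {F : Type u} [Field F] [Finite F] [CharP F 2]

/-- The characters. -/
noncomputable def mu (β : Fin 7 → F) : EE F →* ℂˣ where
  toFun := fun e => ch (Multiplicative.ofAdd (T (∑ k, β k * Multiplicative.toAdd (e k))))
  map_one' := by
    simp
  map_mul' := fun a b => by
    rw [← map_mul, ← ofAdd_add, ← map_add, ← Finset.sum_add_distrib]
    congr 3
    refine Finset.sum_congr rfl fun k _ => ?_
    rw [Pi.mul_apply, toAdd_mul, mul_add]

theorem mu_sg (β : Fin 7 → F) (k : Fin 7) (v : F) : mu β (sg k v) = ch (Multiplicative.ofAdd (T (β k * v))) := by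
  show ch (Multiplicative.ofAdd (T (∑ l, β l * Multiplicative.toAdd (sg k v l)))) = _
  rw [Finset.sum_eq_single k]
  · simp [sg]
  · intro l _ hl
    simp [sg, Pi.mulSingle_eq_of_ne hl]
  · intro h
    exact absurd (Finset.mem_univ k) h

theorem T_ext {a b : F} (h : ∀ v, T (a * v) = T (b * v)) : a = b := by
  by_contra hab
  obtain ⟨x, hx⟩ := exists_T_mul (sub_ne_zero.2 hab)
  have h1 := h x
  rw [← sub_eq_zero, ← map_sub, ← sub_mul, mul_comm, hx] at h1
  exact one_ne_zero h1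

theorem mu_injective : Function.Injective (mu (F := F)) := by
  intro β β' h
  funext k
  refine T_ext fun v => ?_
  have h1 := DFunLike.congr_fun h (sg k v)
  rw [mu_sg, mu_sg] at h1
  exact ch_inj h1

theorem mu_surjective : Function.Surjective (mu (F := F)) := by
  have h1 : Monoid.exponent (EE F) ≠ 0 := Monoid.exponent_ne_zero_of_finite
  haveI : NeZero (Monoid.exponent (EE F)) := ⟨h1⟩
  have h2 : Nat.card (EE F →* ℂˣ) = Nat.card (EE F) := CommGroup.card_monoidHom_of_hasEnoughRootsOfUnity (EE F) ℂ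
  have h3 : Nat.card (Fin 7 → F) = Nat.card (EE F →* ℂˣ) := by
    rw [h2]
    exact Nat.card_congr (Equiv.refl _)
  haveI : Finite (EE F →* ℂˣ) := by
    apply Nat.finite_of_card_ne_zero
    rw [h2]
    exact Nat.card_pos.ne'
  exact ((Nat.bijective_iff_injective_and_card _).2 ⟨mu_injective, h3⟩).2

end Mu

section Ext

variable {F : Type u} [Field F] [CharP F 2]

theorem e_ne : ∀ i, (tabL.e i : F) ≠ 0 := by
  have h : ∀ i, tabL.e i * tabL.e i = 1 := by decide
  exact fun i => cast_ne_zero (h i)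

/-- The special group. -/
noncomputable def DD (F : Type u) [Field F] [CharP F 2] : D0 ↥(chevF4.group F) (Fin 8 → F) F :=
  (tabL.rs hF4 tabL_ok F e_ne).toD0

theorem S_ne_th : ∀ i, tabL.S i < chevF4.nroots := tabL_ok.S_lt

theorem xe_ii (i : Fin 8) (t : F) (e : EE F) : xe hF4 (tabL.S i) t * ii F e = ii F e * xe hF4 (tabL.S i) t := by
  have h : ∀ k v, xe hF4 (tabL.S i) t * xe hF4 (rE k) v = xe hF4 (rE k) v * xe hF4 (tabL.S i) t := by
    intro k v
    obtain ⟨h1, h2, h3⟩ := S_rE k i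
    exact comm2_nil hF4 (rE_lt k) (S_ne_th i) h1 h2 h3 v t
  have h' : ∀ k v, xe hF4 (tabL.S i) t * ii F (sg k v) = ii F (sg k v) * xe hF4 (tabL.S i) t := by
    intro k v
    rw [ii_sg]
    exact h k v
  rw [eq_prod e]
  have hm : ∀ a b : EE F, xe hF4 (tabL.S i) t * ii F a = ii F a * xe hF4 (tabL.S i) t →
      xe hF4 (tabL.S i) t * ii F b = ii F b * xe hF4 (tabL.S i) t →
      xe hF4 (tabL.S i) t * ii F (a * b) = ii F (a * b) * xe hF4 (tabL.S i) t := by
    intro a b ha hb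
    rw [map_mul, ← mul_assoc, ha, mul_assoc, hb, mul_assoc]
  exact hm _ _ (h' _ _) (hm _ _ (h' _ _) (hm _ _ (h' _ _) (hm _ _ (h' _ _) (hm _ _ (h' _ _)
    (hm _ _ (h' _ _) (h' _ _))))))

theorem ext : Ext (DD F) (ii F) (fun a => sg 6 a) where
  inj := ii_inj
  i_j := fun a => ii_sg 6 a
  X_i := by
    intro v e
    have hi : ∀ (v : Fin 8 → F) (l : List (Fin 8)), (tabL.rs hF4 tabL_ok F e_ne).P l v * ii F e =
        ii F e * (tabL.rs hF4 tabL_ok F e_ne).P l v := by
      intro v l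
      induction l with
      | nil => rw [RS.P_nil, one_mul, mul_one]
      | cons a l ih =>
        rw [RS.P_cons, mul_assoc, ih, ← mul_assoc, ← mul_assoc]
        congr 1
        exact xe_ii a _ e
    exact hi v _

end Ext

theorem card_arith {q i : ℕ} (hq : 4 ≤ q) (h : q ^ 8 * (q ^ 3 - 1) ≤ 2 * i) : q ^ 24 ≤ (q - 1) ^ 4 * i ^ 2 := by
  obtain ⟨r, rfl⟩ : ∃ r, q = r + 1 := ⟨q - 1, by omega⟩
  have hr : 3 ≤ r := by omega
  have h1 : (r + 1) ^ 3 - 1 = r ^ 3 + 3 * r ^ 2 + 3 * r := by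
    have : (r + 1) ^ 3 = r ^ 3 + 3 * r ^ 2 + 3 * r + 1 := by ring
    omega
  rw [h1] at h
  rw [Nat.add_sub_cancel]
  have h2 : 2 * (r + 1) ^ 4 ≤ r ^ 2 * (r ^ 3 + 3 * r ^ 2 + 3 * r) := by
    obtain ⟨s, rfl⟩ : ∃ s, r = s + 3 := ⟨r - 3, by omega⟩
    ring_nf
    nlinarith [sq_nonneg s, pow_pos (Nat.succ_pos s) 3, pow_pos (Nat.succ_pos s) 4]
  have h3 : 2 * (r + 1) ^ 12 ≤ 2 * (r ^ 2 * i) := by
    calc 2 * (r + 1) ^ 12 = (r + 1) ^ 8 * (2 * (r + 1) ^ 4) := by ring
      _ ≤ (r + 1) ^ 8 * (r ^ 2 * (r ^ 3 + 3 * r ^ 2 + 3 * r)) := Nat.mul_le_mul_left _ h2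
      _ = r ^ 2 * ((r + 1) ^ 8 * (r ^ 3 + 3 * r ^ 2 + 3 * r)) := by ring
      _ ≤ r ^ 2 * (2 * i) := Nat.mul_le_mul_left _ h
      _ = _ := by ring
  have h4 : (r + 1) ^ 12 ≤ r ^ 2 * i := by omega
  calc (r + 1) ^ 24 = ((r + 1) ^ 12) ^ 2 := by ring
    _ ≤ (r ^ 2 * i) ^ 2 := Nat.pow_le_pow_left h4 2
    _ = _ := by ring

section Main

variable {F : Type u} [Field F] [Fintype F] [CharP F 2]

/-- coordinates of a character -/
def bt (b c b' c' b'' c'' : F) : Fin 7 → F := ![b, b', b'', c'', c', c, 1]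

/-- The new coordinates. -/
def be (g : Fin 8) (τ : F) (β : Fin 7 → F) (k : Fin 7) : F :=
  match nx g k with
  | none => β k
  | some l => β k + (β l * τ ^ 2 + if (g : ℕ) < 6 then τ else 0)

theorem mu_im (g : Fin 8) (τ : F) {β : Fin 7 → F} (h6 : β 6 = 1) (k : Fin 7) (v : F) :
    mu β (im g (τ ^ 2) k v) = mu (be g τ β) (sg k v) := by
  unfold im
  rw [mu_sg]
  unfold be
  cases hn : nx g k with
  | none => rw [mu_sg]
  | some l =>
    dsimp only
    rw [map_mul, map_mul, mu_sg, mu_sg]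
    by_cases hg : (g : ℕ) < 6
    · have hc : T (v ^ 2 * τ ^ 2) = T (v * τ) := by rw [← mul_pow, T_sq]
      rw [if_pos hg, if_pos hg, mu_sg, h6, one_mul, hc, ← map_mul, ← map_mul, ← ofAdd_add, ← ofAdd_add, ← map_add T,
        ← map_add T]
      congr 3
      ring
    · rw [if_neg hg, if_neg hg, map_one, mul_one, ← map_mul, ← ofAdd_add, ← map_add]
      congr 3
      ring

/-- The invariance. -/
theorem w_be {w : (EE F →* ℂˣ) → ℕ}
    (hw : ∀ (g : ↥(chevF4.group F)) (φ : EE F ≃* EE F), (∀ e, ii F (φ e) = g * ii F e * g⁻¹) →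
      ∀ μ, w (μ.comp φ.toMonoidHom) = w μ) (g : Fin 8) (τ : F) {β : Fin 7 → F} (h6 : β 6 = 1) :
    w (mu (be g τ β)) = w (mu β) := by
  refine w_conj ii_inj hw (xe hF4 (gm g) (τ ^ 2)) _ _ ?_
  set G := xe hF4 (gm g) (τ ^ 2) with hG
  let P : EE F → Prop := fun e => ∃ e', ii F e' = G * ii F e * G⁻¹ ∧ mu β e' = mu (be g τ β) e
  have h1 : ∀ k v, P (sg k v) := fun k v => ⟨im g (τ ^ 2) k v, conj_sg g (τ ^ 2) k v, mu_im g τ h6 k v⟩
  have hm : ∀ a b, P a → P b → P (a * b) := by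
    rintro a b ⟨a', ha, ha'⟩ ⟨b', hb, hb'⟩
    refine ⟨a' * b', ?_, by rw [map_mul, map_mul, ha', hb']⟩
    rw [map_mul, map_mul, ha, hb]
    group
  intro e
  change P e
  rw [eq_prod e]
  exact hm _ _ (h1 _ _) (hm _ _ (h1 _ _) (hm _ _ (h1 _ _) (hm _ _ (h1 _ _) (hm _ _ (h1 _ _)
    (hm _ _ (h1 _ _) (h1 _ _))))))

theorem be_0 (τ b c b' c' b'' c'' : F) : be 0 τ (bt b c b' c' b'' c'') = bt b (c + (τ + τ ^ 2 * b)) b' c' b'' c'' := by
  funext k
  fin_cases k <;> simp [be, bt, nx] <;> ring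

theorem be_1 (τ b c b' c' b'' c'' : F) : be 1 τ (bt b c b' c' b'' c'') = bt (b + (τ + τ ^ 2 * c)) c b' c' b'' c'' := by
  funext k
  fin_cases k <;> simp [be, bt, nx] <;> ring

theorem be_2 (τ b c b' c' b'' c'' : F) : be 2 τ (bt b c b' c' b'' c'') = bt b c b' (c' + (τ + τ ^ 2 * b')) b'' c'' := by
  funext k
  fin_cases k <;> simp [be, bt, nx] <;> ring

theorem be_3 (τ b c b' c' b'' c'' : F) : be 3 τ (bt b c b' c' b'' c'') = bt b c (b' + (τ + τ ^ 2 * c')) c' b'' c'' := by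
  funext k
  fin_cases k <;> simp [be, bt, nx] <;> ring

theorem be_4 (τ b c b' c' b'' c'' : F) : be 4 τ (bt b c b' c' b'' c'') = bt b c b' c' b'' (c'' + (τ + τ ^ 2 * b'')) := by
  funext k
  fin_cases k <;> simp [be, bt, nx] <;> ring

theorem be_5 (τ b c b' c' b'' c'' : F) : be 5 τ (bt b c b' c' b'' c'') = bt b c b' c' (b'' + (τ + τ ^ 2 * c'')) c'' := by
  funext k
  fin_cases k <;> simp [be, bt, nx] <;> ring

theorem be_6 (τ b c b' c' b'' c'' : F) :
    be 6 τ (bt b c b' c' b'' c'') = bt b (c + τ ^ 2 * b') b' (c' + τ ^ 2 * b) b'' c'' := by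
  funext k
  fin_cases k <;> simp [be, bt, nx] <;> ring

theorem be_7 (τ b c b' c' b'' c'' : F) :
    be 7 τ (bt b c b' c' b'' c'') = bt b c b' (c' + τ ^ 2 * b'') b'' (c'' + τ ^ 2 * b') := by
  funext k
  fin_cases k <;> simp [be, bt, nx] <;> ring

theorem exists_sq (t : F) : ∃ τ, τ ^ 2 = t := by
  have h := (frobeniusEquiv F 2).surjective t
  obtain ⟨τ, hτ⟩ := h
  exact ⟨τ, by rw [← hτ, frobeniusEquiv_def]⟩

/-- The orbits. -/
theorem w_eq {w : (EE F →* ℂˣ) → ℕ}
    (hw : ∀ (g : ↥(chevF4.group F)) (φ : EE F ≃* EE F), (∀ e, ii F (φ e) = g * ii F e * g⁻¹) →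
      ∀ μ, w (μ.comp φ.toMonoidHom) = w μ) {b c b' c' b'' c'' d e d' e' d'' e'' : F}
    (hT : T (b * c) + T (b' * c') + T (b'' * c'') = T (d * e) + T (d' * e') + T (d'' * e'')) :
    w (mu (bt d e d' e' d'' e'')) = w (mu (bt b c b' c' b'' c'')) := by
  refine orbit (O := fun x x' y y' z z' => w (mu (bt x x' y y' z z')) = w (mu (bt b c b' c' b'' c'')))
    ?_ ?_ ?_ ?_ ?_ ?_ ?_ ?_ rfl hT
  · intro b c b' c' b'' c'' τ h
    rw [← h, ← be_0]
    exact w_be hw 0 τ rfl
  · intro b c b' c' b'' c'' τ h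
    rw [← h, ← be_1]
    exact w_be hw 1 τ rfl
  · intro b c b' c' b'' c'' τ h
    rw [← h, ← be_2]
    exact w_be hw 2 τ rfl
  · intro b c b' c' b'' c'' τ h
    rw [← h, ← be_3]
    exact w_be hw 3 τ rfl
  · intro b c b' c' b'' c'' τ h
    rw [← h, ← be_4]
    exact w_be hw 4 τ rfl
  · intro b c b' c' b'' c'' τ h
    rw [← h, ← be_5]
    exact w_be hw 5 τ rfl
  · intro b c b' c' b'' c'' t h
    obtain ⟨τ, rfl⟩ := exists_sq t
    rw [← h, ← be_6]
    exact w_be hw 6 τ rfl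
  · intro b c b' c' b'' c'' t h
    obtain ⟨τ, rfl⟩ := exists_sq t
    rw [← h, ← be_7]
    exact w_be hw 7 τ rfl

theorem eq_bt {β : Fin 7 → F} (h6 : β 6 = 1) : β = bt (β 0) (β 5) (β 1) (β 4) (β 2) (β 3) := by
  funext k
  fin_cases k
  · rfl
  · rfl
  · rfl
  · rfl
  · rfl
  · rfl
  · exact h6

/-- The centre. -/
def sgh (F : Type u) [Field F] : Multiplicative F →* EE F := MonoidHom.mulSingle (fun _ => Multiplicative F) 6

theorem sgh_injective : Function.Injective (sgh F) := by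
  intro a b h
  have h1 : sgh F a 6 = sgh F b 6 := congrFun h 6
  have h2 : ∀ a, sgh F a 6 = a := fun a => Pi.mulSingle_eq_same (M := fun _ => Multiplicative F) (6 : Fin 7) a
  rw [h2, h2] at h1
  exact h1

theorem card_Z : Nat.card (sgh F).range = Fintype.card F := by
  rw [← Nat.card_congr (MonoidHom.ofInjective (sgh_injective (F := F))).toEquiv, Nat.card_eq_fintype_card]
  exact Fintype.card_congr Multiplicative.toAdd

theorem card_EE : Nat.card (EE F) = Fintype.card F ^ 7 := by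
  rw [Nat.card_fun, Nat.card_eq_fintype_card (α := Fin 7), Fintype.card_fin, Nat.card_eq_fintype_card]
  congr 1
  exact Fintype.card_congr Multiplicative.toAdd

/-- **The index of a proper subgroup.** -/
theorem main (hs : IsSimpleGroup ↥(chevF4.group F)) (H : Subgroup ↥(chevF4.group F)) (hH : H ≠ ⊤) :
    Fintype.card F ^ 8 * (Fintype.card F ^ 3 - 1) ≤ 2 * H.index := by
  classical
  have : Finite (GL chevF4.Idx F) := inferInstance
  let lam : (sgh F).range →* ℂˣ := (mu (bt (0 : F) 0 0 0 0 0)).comp (sgh F).range.subtype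
  have hl : lam ≠ 1 := by
    intro h
    obtain ⟨x, hx⟩ := exists_T_one F
    have h1 : lam ⟨sg 6 x, x, rfl⟩ = 1 := by rw [h]; rfl
    have h2 : lam ⟨sg 6 x, x, rfl⟩ = mu (bt (0 : F) 0 0 0 0 0) (sg 6 x) := rfl
    rw [h2, mu_sg] at h1
    have h3 : bt (0 : F) 0 0 0 0 0 6 * x = x := one_mul x
    rw [h3, hx] at h1
    exact one_ne_zero (ch_inj (b := 0) (h1.trans (map_one ch).symm))
  obtain ⟨w, ⟨μ0, hμ0, hw0⟩, hsum, hconj, hsq, -⟩ := summary (ii_inj (F := F)) (sgh F).range (by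
    rintro _ ⟨a, rfl⟩ _ ⟨b, rfl⟩ ha hb
    have h1 : ∀ a, ii F (sgh F a) = xe hF4 47 (Multiplicative.toAdd a) := fun a => ii_sg 6 _
    rw [h1, h1]
    refine z_isConj0 hF4 tabL_ok.th_lt tabL_ok.p_lt tabL_ok.p_th _ _ ?_ ?_
    · rintro h0
      apply ha
      have : a = 1 := h0
      rw [this, map_one]
    · rintro h0
      apply hb
      have : b = 1 := h0
      rw [this, map_one]) lam hl hH
  obtain ⟨β, rfl⟩ := mu_surjective μ0
  have h6 : β 6 = 1 := by
    refine T_ext fun v => ch_inj ?_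
    have h1 := hμ0 ⟨sg 6 v, v, rfl⟩
    have h2 : lam ⟨sg 6 v, v, rfl⟩ = mu (bt (0 : F) 0 0 0 0 0) (sg 6 v) := rfl
    rw [h2, mu_sg] at h1
    exact h1.trans (mu_sg _ 6 v)
  set q := Fintype.card F with hq
  have hq1 : 1 < q := Fintype.one_lt_card
  -- the size
  have hw1 : q ^ 11 ≤ w (mu β) := by
    obtain ⟨x, hx⟩ := exists_T_one F
    have h1 := hsq (mu β) hw0 (Cg ext) (iC ext) (coe_iC ext) (cm ext) (hypE ext (a0 := x) (by
      show mu β (sg 6 x) ≠ 1
      rw [mu_sg, h6, one_mul, hx]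
      intro h1
      exact one_ne_zero (ch_inj (b := 0) (h1.trans (map_one ch).symm))))
    rw [card_Cg, card_EE, Nat.card_fun, Nat.card_eq_fintype_card (α := Fin 8), Fintype.card_fin,
      Nat.card_eq_fintype_card (α := F), ← hq] at h1
    have h2 : (q ^ 11) ^ 2 ≤ w (mu β) ^ 2 := by
      calc (q ^ 11) ^ 2 = q ^ 8 * q ^ 7 * q ^ 7 := by ring
        _ ≤ _ := h1
    exact (Nat.pow_le_pow_iff_left (by norm_num)).1 h2
  -- the orbit
  set ε : ZMod 2 := T (β 0 * β 5) + T (β 1 * β 4) + T (β 2 * β 3) with hε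
  let f : (Fin 3 → F) × (Fin 3 → F) → (EE F →* ℂˣ) := fun p =>
    mu (bt (p.1 0) (p.2 0) (p.1 1) (p.2 1) (p.1 2) (p.2 2))
  have hf : Function.Injective f := by
    rintro ⟨b, c⟩ ⟨b', c'⟩ h
    have h1 := mu_injective h
    have h2 : ∀ k, bt (b 0) (c 0) (b 1) (c 1) (b 2) (c 2) k = bt (b' 0) (c' 0) (b' 1) (c' 1) (b' 2) (c' 2) k :=
      fun k => congrFun h1 k
    refine Prod.ext (funext fun k => ?_) (funext fun k => ?_)
    · fin_cases k
      · exact h2 0
      · exact h2 1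
      · exact h2 2
    · fin_cases k
      · exact h2 5
      · exact h2 4
      · exact h2 3
  set S := Finset.univ.filter fun p : (Fin 3 → F) × (Fin 3 → F) => T (∑ k, p.1 k * p.2 k) = ε with hS
  have h1 := hsum (S.image f) (by
    rintro μ hμ ⟨_, a, rfl⟩
    rw [Finset.mem_image] at hμ
    obtain ⟨p, -, rfl⟩ := hμ
    have h2 : lam ⟨sgh F a, a, rfl⟩ = mu (bt (0 : F) 0 0 0 0 0) (sg 6 (Multiplicative.toAdd a)) := rfl
    rw [h2, mu_sg]
    exact mu_sg _ 6 _)
  have h2 : ∀ μ ∈ S.image f, w μ = w (mu β) := by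
    intro μ hμ
    rw [Finset.mem_image] at hμ
    obtain ⟨p, hp, rfl⟩ := hμ
    rw [hS, Finset.mem_filter] at hp
    rw [eq_bt h6]
    refine w_eq hconj ?_
    rw [← hε, ← hp.2, Fin.sum_univ_three, map_add, map_add]
  rw [Finset.sum_congr rfl h2, Finset.sum_const, smul_eq_mul, Finset.card_image_of_injective _ hf, card_Z,
    card_EE, ← hq] at h1
  have h3 := count (F := F) ε
  have h4 : (Finset.univ.filter fun p : (Fin 3 → F) × (Fin 3 → F) => T (∑ k, p.1 k * p.2 k) = ε).card = S.card := by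
    congr
  rw [h4, ← hq] at h3
  have h5 : q ^ 7 * (S.card * q ^ 5) ≤ q ^ 7 * H.index := by
    calc q ^ 7 * (S.card * q ^ 5) = S.card * q ^ 11 * q := by ring
      _ ≤ S.card * w (mu β) * q := Nat.mul_le_mul_right _ (Nat.mul_le_mul_left _ hw1)
      _ ≤ _ := h1
  have h6' : S.card * q ^ 5 ≤ H.index := Nat.le_of_mul_le_mul_left h5 (by positivity)
  calc q ^ 8 * (q ^ 3 - 1) = (q ^ 3 - 1) * q ^ 3 * q ^ 5 := by ring
    _ ≤ 2 * S.card * q ^ 5 := Nat.mul_le_mul_right _ h3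
    _ = 2 * (S.card * q ^ 5) := by ring
    _ ≤ _ := Nat.mul_le_mul_left _ h6'

end Main

/-- **The bound for `F₄(q)`, `q ≥ 4` even.** -/
theorem bound_F4_even {F : Type} [Field F] [Fintype F] (h2 : CharP F 2) (h4 : 4 ≤ Fintype.card F)
    (hs : IsSimpleGroup ↥(Cfsg.Lie.chevF4.group F)) (L : Subgroup ↥(Cfsg.Lie.chevF4.group F)) (hL : L ≠ ⊤) :
    Fintype.card F ^ 24 ≤ (Fintype.card F - 1) ^ 4 * L.index ^ 2 :=
  card_arith h4 (main hs L hL)

end Cfsg.Agent.H934.HeisF4Even
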