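import Mathlib
import Cfsg.Agent.H934.HeisTw
import Cfsg.Agent.H934.HeisE6
import Cfsg.Agent.ChevalleyStructure.TwE6BN

/-!
# The special group of the highest root in `²E₆(q)`

`|²E₆(q) : L|² ≥ q^22` for every proper subgroup `L`.
-/

set_option autoImplicit false

namespace Cfsg.Agent.H934.HeisTwE6

open Cfsg.Lie
open Cfsg.Agent.ChevalleyStructure
open Cfsg.Agent.ChevalleyStructure.Elts hiding x_add x_zero x_eq_one_iff
open Cfsg.Agent.ChevalleyStructure.TwE6Basic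
open Cfsg.Agent.ChevalleyStructure.TwE6BN
open Cfsg.Agent.H934.HeisTw Cfsg.Agent.H934.HeisRoot

universe u

variable {K : Type u} [Field K]

/-- The root elements of the special group. -/
noncomputable def R (K : Type u) [Field K] : RH (GL chevE6.Idx K) K (Fin 20) (Fin 10) :=
  mapRH (HeisE6.tab.rh HeisE6.hD HeisE6.tab_ok K) (chevE6.group K).subtype Subtype.val_injective

/-- the graph automorphism on the indices -/
def rhoI : Equiv.Perm (Fin 20) where
  toFun := ![0, 1, 4, 10, 2, 5, 11, 7, 13, 16, 3, 6, 12, 8, 14, 17, 9, 15, 18, 19]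
  invFun := ![0, 1, 4, 10, 2, 5, 11, 7, 13, 16, 3, 6, 12, 8, 14, 17, 9, 15, 18, 19]
  left_inv := by decide +kernel
  right_inv := by decide +kernel

/-- signs -/
def eps : Fin 20 → ℤ := ![1, 1, 1, -1, 1, 1, -1, 1, -1, -1, -1, -1, 1, -1, 1, 1, -1, 1, 1, 1]

theorem S_lt : ∀ i : Fin 20, HeisE6.tab.S i < 72 := by decide +kernel

theorem tab_rho : ∀ i : Fin 20, (rho ⟨HeisE6.tab.S i, S_lt i⟩).val = HeisE6.tab.S (rhoI i) ∧
    epsE ⟨HeisE6.tab.S i, S_lt i⟩ = eps i := by decide +kernel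

theorem R_x (i : Fin 20) (t : K) : (R K).x i t = x (HeisE6.tab.S i) t := Units.ext rfl

theorem R_z (t : K) : (R K).z t = x 71 t := Units.ext rfl

theorem sg_x' (φ : K →+* K) (r : Fin 72) (t : K) : sg φ (x r.val t) = x (rho r).val ((epsE r : K) * φ t) :=
  sg_x φ r t

theorem rho71 : (rho ⟨71, by norm_num⟩).val = 71 ∧ epsE ⟨71, by norm_num⟩ = 1 := by decide +kernel

theorem sig_R (φ : K →+* K) (i : Fin 20) (t : K) :
    sg φ ((R K).x i t) = (R K).x (rhoI i) ((eps i : K) * φ t) := by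
  rw [R_x, R_x]
  have h := sg_x' φ ⟨HeisE6.tab.S i, S_lt i⟩ t
  rw [(tab_rho i).1, (tab_rho i).2] at h
  exact h

theorem rhoI_spec : ∀ j : Fin 20, rhoI.symm (rhoI.symm j) = j ∧
    eps (rhoI.symm j) * eps (rhoI.symm (rhoI.symm j)) = 1 ∧ rhoI (rhoI j) = j ∧ eps (rhoI j) * eps j = 1 ∧
    rhoI j ≠ HeisE6.tab.opp j := by decide +kernel

theorem sV_two {φ : K →+* K} (h2 : ∀ t, φ (φ t) = t) (v : Fin 20 → K) :
    (sV φ rhoI fun i => (eps i : K))^[2] v = v := by
  ext j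
  obtain ⟨h3, h4, -, -⟩ := rhoI_spec j
  rw [Function.iterate_succ_apply, Function.iterate_one, sV_apply, sV_apply]
  simp only [map_mul, map_intCast]
  rw [h2, ← mul_assoc, ← Int.cast_mul, h4, h3, Int.cast_one, one_mul]

theorem comm_R {i j : Fin 20} (h : j ≠ HeisE6.tab.opp i) (s t : K) :
    Commute ((R K).x i s) ((R K).x j t) := by
  have h1 := (R K).x_comm i j s t
  have h2 : (R K).b i j = 0 := if_neg h
  rw [h2, zero_mul, zero_mul, (R K).z_zero, mul_one] at h1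
  exact h1

/-- Follow a word in the relative Weyl group to a fundamental class. -/
def go : List (Fin 4) → ℕ → ℕ → Bool
  | [], r, s => (List.finRange 4).any fun i => (posE i).contains r && (posE i).contains s
  | i :: w, r, s => decide (r < 72) && decide (s < 72) && go w (wp i r) (wp i s)

theorem mem_of_go {q : ℕ} {φ : K →+* K} (hφ : ∀ t, φ t = t ^ q) (hqq : ∀ t : K, (t ^ q) ^ q = t) :
    ∀ (w : List (Fin 4)) (r s : ℕ), go w r s = true → ∀ g ∈ rs K [r, s], g ∈ fix φ → g ∈ twistedE6 K q := by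
  intro w
  induction w with
  | nil =>
    intro r s h g hg hf
    simp only [go, List.any_eq_true, Bool.and_eq_true, List.contains_iff_mem] at h
    obtain ⟨i, -, h1, h2⟩ := h
    refine X_fix_le φ hφ i ?_ hf
    refine rs_le (fun r' hr' t => ?_) hg
    rcases List.mem_cons.1 hr' with rfl | hr'
    · exact x_mem_rs h1 t
    · rw [List.mem_singleton.1 hr']
      exact x_mem_rs h2 t
  | cons i w ih =>
    intro r s h g hg hf
    simp only [go, Bool.and_eq_true, decide_eq_true_eq] at h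
    obtain ⟨⟨hr, hs⟩, h⟩ := h
    have hn := n_mem_G φ hφ (K := K) i
    have h1 : n i * g * (n i)⁻¹ ∈ rs K [wp i r, wp i s] := by
      refine conj_rs (acts_n i) (A := [r, s]) ?_ hg
      intro r' hr'
      rcases List.mem_cons.1 hr' with rfl | hr'
      · exact ⟨hr, by rw [wP_val]; simp⟩
      · rw [List.mem_singleton.1 hr']
        exact ⟨hs, by rw [wP_val]; simp⟩
    have hnf := twisted_le_fix φ hφ hqq hn
    have h2 := ih _ _ h _ h1 (mul_mem (mul_mem hnf hf) (inv_mem hnf))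
    have h3 : g = (n i)⁻¹ * (n i * g * (n i)⁻¹) * n i := by group
    rw [h3]
    exact mul_mem (mul_mem (inv_mem hn) h2) hn

/-- words to the fundamental classes -/
def words : Fin 20 → List (Fin 4) := ![[], [0], [0, 1], [0, 1, 2], [0, 1], [0, 2], [0, 2, 1, 2], [1, 0, 2],
  [1, 0, 2, 1, 2], [2, 1, 0, 2, 1, 2], [0, 1, 2], [0, 2, 1, 2], [0, 3, 2], [1, 0, 2, 1, 2], [1, 0, 3, 2],
  [3, 2, 1, 0, 2, 1, 2], [2, 1, 0, 2, 1, 2], [3, 2, 1, 0, 2, 1, 2], [2, 1, 0, 3, 2], [1, 2, 1, 0, 3, 2]]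

theorem go_words : ∀ i : Fin 20, go (words i) (HeisE6.tab.S i) (HeisE6.tab.S (rhoI i)) = true := by decide +kernel

theorem go_z : go [0, 1, 2, 1, 0, 3, 2] 71 71 = true := by decide +kernel

theorem lift {q : ℕ} {φ : K →+* K} (hφ : ∀ t, φ t = t ^ q) (hqq : ∀ t : K, (t ^ q) ^ q = t) (i : Fin 20) (t : K) :
    (R K).x i t * (R K).x (rhoI i) ((eps i : K) * φ t) ∈ twistedE6 K q := by
  have h2 : ∀ t, φ (φ t) = t := fun t => by rw [hφ, hφ, hqq]
  obtain ⟨-, -, h5, h6, h7⟩ := rhoI_spec i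
  refine mem_of_go hφ hqq (words i) _ _ (go_words i) _ (mul_mem ?_ ?_) ?_
  · rw [R_x]
    exact x_mem_rs (by simp) t
  · rw [R_x]
    exact x_mem_rs (by simp) _
  · rw [mem_fix, map_mul, sig_R, sig_R, h5]
    simp only [map_mul, map_intCast]
    rw [h2, ← mul_assoc, ← Int.cast_mul, h6, Int.cast_one, one_mul, (comm_R h7 _ _).eq]

theorem z_mem {q : ℕ} {φ : K →+* K} (hφ : ∀ t, φ t = t ^ q) (hqq : ∀ t : K, (t ^ q) ^ q = t) (a : K)
    (ha : φ a = a) : (R K).z a ∈ twistedE6 K q := by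
  refine mem_of_go hφ hqq _ _ _ go_z _ ?_ ?_
  · rw [R_z]
    exact x_mem_rs (by simp) a
  · rw [mem_fix, R_z]
    have h := sg_x' φ ⟨71, by norm_num⟩ a
    rw [rho71.1, rho71.2, Int.cast_one, one_mul, ha] at h
    exact h

theorem sig_z (φ : K →+* K) (a : K) : sg φ ((R K).z a) = (R K).z (φ a) := by
  rw [R_z, R_z]
  have h := sg_x' φ ⟨71, by norm_num⟩ a
  rw [rho71.1, rho71.2, Int.cast_one, one_mul] at h
  exact h

theorem nG_mem {q : ℕ} {φ : K →+* K} (hφ : ∀ t, φ t = t ^ q) {c : K} (hc : φ c = c) :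
    nG hE6 46 c ∈ twistedE6 K q := by
  have h1 : c ^ q = c := by rw [← hφ, hc]
  have h2 : (-c⁻¹) ^ q = -c⁻¹ := by rw [← hφ, map_neg, map_inv₀, hc]
  rw [nG_def]
  exact mul_mem (single0.pos_mem_G h1) (mul_mem (single0.neg_mem_G h2) (single0.pos_mem_G h1))

theorem z_conj {q : ℕ} {φ : K →+* K} (hφ : ∀ x, φ x = x ^ q) {a b : K} (ha : φ a = a) (hb : φ b = b) (ha0 : a ≠ 0)
    (hb0 : b ≠ 0) : ∃ h ∈ twistedE6 K q, h * (R K).z a * h⁻¹ = (R K).z b := by
  refine ⟨hG hE6 46 (b / a), ?_, ?_⟩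
  · rw [← nG_mul_inv]
    exact mul_mem (nG_mem hφ (by rw [map_div₀, ha, hb])) (inv_mem (nG_mem hφ (map_one φ)))
  · have h1 := Cfsg.Agent.S1032.result (F := K) chevE6 hE6 1 71 (by decide) (by decide) (b / a)
      (div_ne_zero hb0 ha0) a
    rw [show chevE6.cartan 1 71 = 1 from by decide +kernel, zpow_one, div_mul_cancel₀ _ ha0] at h1
    rw [mul_inv_eq_iff_eq_mul, R_z, R_z]
    apply Units.ext
    rw [Units.val_mul, Units.val_mul, coe_hG]
    exact h1

/-- **The bound for `²E₆(q)`.** -/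
theorem bound_2E6 {K : Type u} [Field K] [Fintype K] {q : ℕ} (hq : IsPrimePow q) (hK : Fintype.card K = q ^ 2)
    (hs : IsSimpleGroup ↥(Cfsg.Lie.twistedE6 K q)) (L : Subgroup ↥(Cfsg.Lie.twistedE6 K q)) (hL : L ≠ ⊤) :
    q ^ 22 ≤ L.index ^ 2 := by
  classical
  obtain ⟨φ, hφ, hqq⟩ := exists_frob hq hK
  have : Finite (GL chevE6.Idx K) := inferInstance
  have h := final (R K) (sg φ) (twistedE6 K q) φ rhoI (fun i => (eps i : K)) hq.one_lt (n := 2) (by norm_num) hφ hK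
    (sig_R φ) (sig_z φ) (fun g hg => twisted_le_fix φ hφ hqq hg) (z_mem hφ hqq)
    (sV_two fun t => by rw [hφ, hφ, hqq])
    (fun i t => lift_two (R K) (lift hφ hqq i t)) (MonoidHom.id _) Function.injective_id hL
    (fun a b ha hb ha0 hb0 => by
      obtain ⟨h, hh, he⟩ := z_conj hφ ha hb ha0 hb0
      exact isConj_iff.2 ⟨⟨h, hh⟩, Subtype.ext he⟩)
  rw [Fintype.card_fin] at h
  exact h

end Cfsg.Agent.H934.HeisTwE6
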