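import Mathlib
import Cfsg.Agent.H934.HeisF4Even
import Cfsg.Agent.KFacts.TwF4.Full

/-!
# The smallest index of a proper subgroup of `²F₄(q)`, `q ≥ 8`

`E` : the elementary abelian group `X_2' X_3 X_4' X_5 X_6'` of order `q^5` (`X_k'` the centre of `X_k` for even `k`).
Its characters nontrivial on `X_4'` of weight `≠ 0` are all conjugate over a given character of `X_4'`, and each has
weight at least `2 q^5` as `X_4` is not abelian.
-/

set_option autoImplicit false

namespace Cfsg.Agent.H934.HeisTwF4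

open Cfsg.Agent.H934.HeisG Cfsg.Agent.H934.HeisF4Even Cfsg.Agent.H934.ArfO Cfsg.Agent.KFacts.TwF4

universe u

/-- The abelian group. -/
abbrev E5 (F : Type u) : Type u := Fin 5 → Multiplicative F

/-- A coordinate. -/
def s5 {F : Type u} [Field F] (k : Fin 5) (v : F) : E5 F := Pi.mulSingle k (Multiplicative.ofAdd v)

theorem eq5 {F : Type u} [Field F] (e : E5 F) : e = s5 0 (Multiplicative.toAdd (e 0)) *
    (s5 1 (Multiplicative.toAdd (e 1)) * (s5 2 (Multiplicative.toAdd (e 2)) *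
    (s5 3 (Multiplicative.toAdd (e 3)) * s5 4 (Multiplicative.toAdd (e 4))))) := by
  funext k
  fin_cases k <;> simp [s5, Pi.mulSingle_apply, Pi.mul_apply]

theorem ind5 {F : Type u} [Field F] {P : E5 F → Prop} (hm : ∀ a b, P a → P b → P (a * b)) (h : ∀ k v, P (s5 k v))
    (e : E5 F) : P e := by
  rw [eq5 e]
  exact hm _ _ (h _ _) (hm _ _ (h _ _) (hm _ _ (h _ _) (hm _ _ (h _ _) (h _ _))))

section Mu

variable {F : Type u} [Field F] [Finite F] [CharP F 2]

/-- The characters. -/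
noncomputable def mu5 (β : Fin 5 → F) : E5 F →* ℂˣ where
  toFun := fun e => ch (Multiplicative.ofAdd (T (∑ k, β k * Multiplicative.toAdd (e k))))
  map_one' := by
    simp
  map_mul' := fun a b => by
    rw [← map_mul, ← ofAdd_add, ← map_add, ← Finset.sum_add_distrib]
    congr 3
    refine Finset.sum_congr rfl fun k _ => ?_
    rw [Pi.mul_apply, toAdd_mul, mul_add]

theorem mu5_s5 (β : Fin 5 → F) (k : Fin 5) (v : F) : mu5 β (s5 k v) = ch (Multiplicative.ofAdd (T (β k * v))) := by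
  show ch (Multiplicative.ofAdd (T (∑ l, β l * Multiplicative.toAdd (s5 k v l)))) = _
  rw [Finset.sum_eq_single k]
  · simp [s5]
  · intro l _ hl
    simp [s5, Pi.mulSingle_eq_of_ne hl]
  · intro h
    exact absurd (Finset.mem_univ k) h

theorem mu5_injective : Function.Injective (mu5 (F := F)) := by
  intro β β' h
  funext k
  refine T_ext fun v => ?_
  have h1 := DFunLike.congr_fun h (s5 k v)
  rw [mu5_s5, mu5_s5] at h1
  exact ch_inj h1

theorem mu5_surjective : Function.Surjective (mu5 (F := F)) := by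
  have h1 : Monoid.exponent (E5 F) ≠ 0 := Monoid.exponent_ne_zero_of_finite
  haveI : NeZero (Monoid.exponent (E5 F)) := ⟨h1⟩
  have h2 : Nat.card (E5 F →* ℂˣ) = Nat.card (E5 F) := CommGroup.card_monoidHom_of_hasEnoughRootsOfUnity (E5 F) ℂ
  have h3 : Nat.card (Fin 5 → F) = Nat.card (E5 F →* ℂˣ) := by
    rw [h2]
    exact Nat.card_congr (Equiv.refl _)
  haveI : Finite (E5 F →* ℂˣ) := by
    apply Nat.finite_of_card_ne_zero
    rw [h2]
    exact Nat.card_pos.ne'
  exact ((Nat.bijective_iff_injective_and_card _).2 ⟨mu5_injective, h3⟩).2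

end Mu

section Emb

variable {F : Type u} [Field F] {σ : F →+* F} {G : Type*} [Group G] (S : Full σ G)

/-- The generators of `E`. -/
def gn (k : Fin 5) (v : F) : G :=
  match k with
  | 0 => S.e 1 0 v
  | 1 => S.o 1 v
  | 2 => S.e 2 0 v
  | 3 => S.o 2 v
  | 4 => S.e 3 0 v

theorem o_zero (a : ZMod 8) : S.o a 0 = 1 := by
  have h := S.o_add a 0 0
  rw [add_zero] at h
  exact mul_eq_left.1 h

theorem e_zero (a : ZMod 8) : S.e a 0 0 = 1 := by
  have h := S.e_mul a 0 0 0 0
  rw [zero_mul, add_zero, add_zero] at h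
  exact mul_eq_left.1 h

theorem e0_add (a : ZMod 8) (u v : F) : S.e a 0 u * S.e a 0 v = S.e a 0 (u + v) := by
  rw [S.e_mul, zero_mul, add_zero, add_zero]

theorem gn_add (k : Fin 5) (u v : F) : gn S k u * gn S k v = gn S k (u + v) := by
  fin_cases k
  · exact e0_add S _ _ _
  · exact S.o_add _ _ _
  · exact e0_add S _ _ _
  · exact S.o_add _ _ _
  · exact e0_add S _ _ _

theorem gn_zero (k : Fin 5) : gn S k 0 = 1 := by
  have h := gn_add S k 0 0
  rw [add_zero] at h
  exact mul_eq_left.1 h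

theorem e_e1' (a b : ZMod 8) (hb : b = a + 1) (p u q v : F) (h : p * q = 0) :
    S.e a p u * S.e b q v = S.e b q v * S.e a p u := by
  subst hb
  rw [S.e_e1, h, o_zero, mul_one]

theorem e_e2' (a b : ZMod 8) (hb : b = a + 2) (p u q v : F) :
    S.e a p u * S.e b q v = S.e b q v * S.e a p u := by
  subst hb
  exact S.e_e2 _ _ _ _ _

theorem o_e1' (a b : ZMod 8) (hb : b = a + 1) (t q v : F) : S.o a t * S.e b q v = S.e b q v * S.o a t := by
  subst hb
  exact S.o_e1 _ _ _ _

theorem o_o1' (a b : ZMod 8) (hb : b = a + 1) (t s : F) : S.o a t * S.o b s = S.o b s * S.o a t := by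
  subst hb
  exact S.o_o1 _ _ _

theorem o_o2' (a b : ZMod 8) (hb : b = a + 2) (t s : F) : S.o a t * S.o b s = S.o b s * S.o a t := by
  subst hb
  exact S.o_o2 _ _ _

theorem o_e2' (a b c : ZMod 8) (hb : b = a + 2) (hc : c = a + 1) (t q v : F) :
    S.o a t * S.e b q v = S.e b q v * S.o a t * S.e c 0 (t * q) := by
  subst hb hc
  exact S.o_e2 _ _ _ _

theorem o_e2'' (a b : ZMod 8) (hb : b = a + 2) (t v : F) :
    S.o a t * S.e b 0 v = S.e b 0 v * S.o a t := by
  rw [o_e2' S a b (a + 1) hb rfl, mul_zero, e_zero, mul_one]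

theorem e_o1' (a b : ZMod 8) (hb : b = a + 1) (p u s : F) :
    S.e a p u * S.o b s = S.o b s * S.e a p u * S.e b 0 (p * s) := by
  subst hb
  exact S.e_o1 _ _ _ _

theorem e_o1'' (a b : ZMod 8) (hb : b = a + 1) (u s : F) :
    S.e a 0 u * S.o b s = S.o b s * S.e a 0 u := by
  rw [e_o1' S a b hb, zero_mul, e_zero, mul_one]

theorem e_o2' (a b c : ZMod 8) (hb : b = a + 2) (hc : c = a + 1) (u s : F) :
    S.e a 0 u * S.o b s = S.o b s * S.e a 0 u * S.e c 0 (u * s) := by
  subst hb hc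
  rw [S.e_o2]
  simp only [zero_mul, map_zero, zero_add, o_zero, e_zero, mul_one]

theorem o_e3' (a b c : ZMod 8) (hb : b = a + 3) (hc : c = a + 2) (t v : F) :
    S.o a t * S.e b 0 v = S.e b 0 v * S.o a t * S.e c 0 (t * v) := by
  subst hb hc
  rw [S.o_e3]
  simp only [zero_mul, mul_zero, map_zero, zero_add, o_zero, e_zero, mul_one]

theorem gn_comm (k l : Fin 5) (u v : F) : gn S k u * gn S l v = gn S l v * gn S k u := by
  have key : ∀ k l : Fin 5, k < l → ∀ u v, gn S k u * gn S l v = gn S l v * gn S k u := by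
    intro k l hkl u v
    fin_cases k <;> fin_cases l
    all_goals first | exact absurd hkl (by decide) | skip
    · exact S.e_o0 _ _ _ _
    · exact e_e1' S 1 2 (by decide) _ _ _ _ (zero_mul _)
    · exact e_o1'' S 1 2 (by decide) _ _
    · exact e_e2' S 1 3 (by decide) _ _ _ _
    · exact o_e1' S 1 2 (by decide) _ _ _
    · exact o_o1' S 1 2 (by decide) _ _
    · exact o_e2'' S 1 3 (by decide) _ _
    · exact S.e_o0 _ _ _ _
    · exact e_e1' S 2 3 (by decide) _ _ _ _ (zero_mul _)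
    · exact o_e1' S 2 3 (by decide) _ _ _
  rcases lt_trichotomy k l with h | rfl | h
  · exact key k l h u v
  · rw [gn_add, gn_add, add_comm]
  · exact (key l k h v u).symm

/-- The homomorphism of a coordinate. -/
def gh (k : Fin 5) : Multiplicative F →* G where
  toFun := fun v => gn S k (Multiplicative.toAdd v)
  map_one' := gn_zero S k
  map_mul' := fun a b => (gn_add S k _ _).symm

/-- The embedding. -/
def i5 : E5 F →* G :=
  MonoidHom.noncommPiCoprod (fun k => gh S k) (by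
    intro k l _ x y
    exact gn_comm S k l _ _)

theorem i5_s5 (k : Fin 5) (v : F) : i5 S (s5 k v) = gn S k v := by
  exact MonoidHom.noncommPiCoprod_mulSingle _ _ _

/-- The acting elements. -/
def ac (k : Fin 5) (s : F) : G :=
  match k with
  | 0 => S.o 3 s
  | 1 => S.e 3 s 0
  | 2 => 1
  | 3 => S.e 1 s 0
  | 4 => S.o 0 s

theorem ac_comm (k l : Fin 5) (hkl : l ≠ k) (s v : F) : ac S k s * gn S l v = gn S l v * ac S k s := by
  fin_cases k <;> fin_cases l
  all_goals first | exact absurd rfl hkl | skip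
  · exact (o_o2' S 1 3 (by decide) _ _).symm
  · exact (e_o1'' S 2 3 (by decide) _ _).symm
  · exact (o_o1' S 2 3 (by decide) _ _).symm
  · exact (S.e_o0 _ _ _ _).symm
  · exact (e_e2' S 1 3 (by decide) _ _ _ _).symm
  · exact (e_e1' S 2 3 (by decide) _ _ _ _ (zero_mul _)).symm
  · exact (o_e1' S 2 3 (by decide) _ _ _).symm
  · show S.e 3 s 0 * S.e 3 0 v = S.e 3 0 v * S.e 3 s 0
    rw [S.e_mul, S.e_mul, map_zero, mul_zero, zero_mul, add_comm s 0, add_comm 0 v]
  · exact (one_mul _).trans (mul_one _).symm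
  · exact (one_mul _).trans (mul_one _).symm
  · exact (one_mul _).trans (mul_one _).symm
  · exact (one_mul _).trans (mul_one _).symm
  · show S.e 1 s 0 * S.e 1 0 v = S.e 1 0 v * S.e 1 s 0
    rw [S.e_mul, S.e_mul, map_zero, mul_zero, zero_mul, add_comm s 0, add_comm 0 v]
  · exact S.e_o0 _ _ _ _
  · exact e_e1' S 1 2 (by decide) _ _ _ _ (mul_zero _)
  · exact e_e2' S 1 3 (by decide) _ _ _ _
  · exact o_e1' S 0 1 (by decide) _ _ _
  · exact o_o1' S 0 1 (by decide) _ _
  · exact o_e2'' S 0 2 (by decide) _ _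
  · exact o_o2' S 0 2 (by decide) _ _

theorem gn_inv (k : Fin 5) (v : F) : (gn S k v)⁻¹ = gn S k v := by
  rw [inv_eq_iff_mul_eq_one, gn_add, ← two_mul, S.two, zero_mul, gn_zero]

theorem ac_conj (k : Fin 5) (hk : k ≠ 2) (s v : F) :
    ac S k s * gn S k v * (ac S k s)⁻¹ = gn S k v * gn S 2 (s * v) := by
  have h2 := ac_comm S k 2 (Ne.symm hk) s (s * v)
  have key : ∀ A B C : G, B * A = A * B * C → A * C = C * A → C⁻¹ = C → A * B * A⁻¹ = B * C := by
    intro A B C h1 h3 h4
    have h6 : C * C = 1 := by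
      nth_rewrite 1 [← h4]
      exact inv_mul_cancel C
    have h5 : A * B = B * A * C := by rw [h1, mul_assoc (A * B), h6, mul_one]
    rw [h5, mul_assoc B A C, h3]
    group
  have key' : ∀ A B C : G, A * B = B * A * C → A * C = C * A → A * B * A⁻¹ = B * C := by
    intro A B C h1 h3
    rw [h1, mul_assoc B A C, h3]
    group
  fin_cases k
  · refine key _ _ _ ?_ h2 (gn_inv S 2 _)
    have h := e_o2' S 1 3 2 (by decide) (by decide) v s
    rw [mul_comm v s] at h
    exact h
  · refine key _ _ _ ?_ h2 (gn_inv S 2 _)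
    have h := o_e2' S 1 3 2 (by decide) (by decide) v s 0
    rw [mul_comm v s] at h
    exact h
  · exact absurd rfl hk
  · exact key' _ _ _ (e_o1' S 1 2 (by decide) _ _ _) h2
  · exact key' _ _ _ (o_e3' S 0 3 2 (by decide) (by decide) _ _) h2

/-- the image of a coordinate element -/
def im5 (k : Fin 5) (s : F) (l : Fin 5) (v : F) : E5 F := if l = k then s5 l v * s5 2 (s * v) else s5 l v

theorem conj_s5 (k : Fin 5) (hk : k ≠ 2) (s : F) (l : Fin 5) (v : F) :
    i5 S (im5 k s l v) = ac S k s * i5 S (s5 l v) * (ac S k s)⁻¹ := by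
  unfold im5
  by_cases hl : l = k
  · subst hl
    rw [if_pos rfl, map_mul, i5_s5, i5_s5, ac_conj S l hk]
  · rw [if_neg hl, i5_s5, ac_comm S k l hl, mul_inv_cancel_right]

theorem gn_inj (k : Fin 5) : Function.Injective (gn S k) := by
  fin_cases k
  · exact fun u v h => (S.injE _ _ _ _ _ h).2
  · exact S.injO _
  · exact fun u v h => (S.injE _ _ _ _ _ h).2
  · exact S.injO _
  · exact fun u v h => (S.injE _ _ _ _ _ h).2

/-- conjugation of a general element -/
theorem conj_i5 (k : Fin 5) (hk : k ≠ 2) (s : F) (e : E5 F) :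
    ac S k s * i5 S e * (ac S k s)⁻¹ = i5 S e * gn S 2 (s * Multiplicative.toAdd (e k)) := by
  revert e
  refine ind5 ?_ ?_
  · intro a b ha hb
    have h1 : ac S k s * i5 S (a * b) * (ac S k s)⁻¹ =
        (ac S k s * i5 S a * (ac S k s)⁻¹) * (ac S k s * i5 S b * (ac S k s)⁻¹) := by
      rw [map_mul]; group
    have h2 : ∀ v, gn S 2 v = i5 S (s5 2 v) := fun v => (i5_s5 S 2 v).symm
    rw [h1, ha, hb, h2, h2, h2, ← map_mul, ← map_mul, ← map_mul, ← map_mul]
    congr 1
    have h3 : s5 2 (s * Multiplicative.toAdd ((a * b) k)) =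
        s5 2 (s * Multiplicative.toAdd (a k)) * s5 2 (s * Multiplicative.toAdd (b k)) := by
      unfold s5
      rw [← Pi.mulSingle_mul, ← ofAdd_add, Pi.mul_apply, toAdd_mul, mul_add]
    rw [h3, mul_mul_mul_comm]
  · intro l v
    by_cases hl : l = k
    · subst hl
      rw [i5_s5, ac_conj S l hk]
      simp [s5]
    · rw [i5_s5, ac_comm S k l hl, mul_inv_cancel_right]
      have : s5 l v k = 1 := Pi.mulSingle_eq_of_ne (Ne.symm hl) _
      rw [this, toAdd_one, mul_zero, gn_zero, mul_one]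

theorem i5_inj : Function.Injective (i5 S) := by
  rw [injective_iff_map_eq_one]
  intro e he
  have h1 : ∀ k, k ≠ 2 → e k = 1 := by
    intro k hk
    have h2 := conj_i5 S k hk 1 e
    rw [he, mul_one, mul_inv_cancel, one_mul, one_mul, ← gn_zero S 2] at h2
    have h3 := gn_inj S 2 h2
    have h4 : Multiplicative.ofAdd (Multiplicative.toAdd (e k)) = Multiplicative.ofAdd 0 := by rw [← h3]
    exact h4
  have h2 : e = s5 2 (Multiplicative.toAdd (e 2)) := by
    funext k
    by_cases hk : k = 2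
    · subst hk
      simp [s5]
    · rw [h1 k hk]
      exact (Pi.mulSingle_eq_of_ne (M := fun _ => Multiplicative F) hk _).symm
  rw [h2, i5_s5, ← gn_zero S 2] at he
  have h3 := gn_inj S 2 he
  rw [h2, h3]
  simp [s5]

theorem x2_comm (p : F) (e : E5 F) : S.e 2 p 0 * i5 S e = i5 S e * S.e 2 p 0 := by
  revert e
  refine ind5 ?_ ?_
  · intro a b ha hb
    rw [map_mul, ← mul_assoc, ha, mul_assoc, hb, mul_assoc]
  · intro l v
    rw [i5_s5]
    fin_cases l
    · exact (e_e1' S 1 2 (by decide) _ _ _ _ (zero_mul _)).symm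
    · exact (o_e1' S 1 2 (by decide) _ _ _).symm
    · show S.e 2 p 0 * S.e 2 0 v = S.e 2 0 v * S.e 2 p 0
      rw [S.e_mul, S.e_mul, map_zero, mul_zero, zero_mul, add_comm p 0, add_comm 0 v]
    · exact S.e_o0 _ _ _ _
    · exact e_e1' S 2 3 (by decide) _ _ _ _ (mul_zero _)

theorem x2_com (p q : F) : S.e 2 p 0 * S.e 2 q 0 * (S.e 2 p 0)⁻¹ * (S.e 2 q 0)⁻¹ = i5 S (s5 2 (p * σ q + q * σ p)) := by
  rw [i5_s5, mul_assoc _ (S.e 2 p 0)⁻¹, ← mul_inv_rev, mul_inv_eq_iff_eq_mul]
  show _ = S.e 2 0 _ * _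
  rw [S.e_mul, S.e_mul, S.e_mul]
  congr 1
  · ring
  · have h : q * σ p + q * σ p = 0 := by rw [← two_mul, S.two, zero_mul]
    linear_combination -h

include S in
theorem chi_eq {c : F} (hc : c ≠ 0) : σ c / c * σ (σ c / c) = c := by
  have hs0 : σ c ≠ 0 := (map_ne_zero σ).2 hc
  rw [map_div₀, S.sq]
  field_simp

/-- fusion in the centre of `X_4` -/
theorem fus {u v : F} (hu : u ≠ 0) (hv : v ≠ 0) : IsConj (i5 S (s5 2 u)) (i5 S (s5 2 v)) := by
  rw [i5_s5, i5_s5]
  set c := v / u with hc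
  have hc0 : c ≠ 0 := div_ne_zero hv hu
  have hs0 : σ c ≠ 0 := (map_ne_zero σ).2 hc0
  let χ : Fˣ := Units.mk0 (σ c / c) (div_ne_zero hs0 hc0)
  rw [isConj_iff]
  refine ⟨S.h χ⁻¹ 1, ?_⟩
  show S.h χ⁻¹ 1 * S.e 2 0 u * (S.h χ⁻¹ 1)⁻¹ = S.e 2 0 v
  rw [S.h_e, mul_zero]
  have h1 : chE σ 2 χ⁻¹ (1 : Fˣ) = χ := by
    simp [chE]
  rw [h1]
  congr 1
  show σ c / c * σ (σ c / c) * u = v
  rw [chi_eq S hc0, hc, div_mul_cancel₀ _ hu]

end Emb

section Main

variable {F : Type u} [Field F] [Fintype F] [CharP F 2] {σ : F →+* F} {G : Type*} [Group G] (S : Full σ G)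

/-- The invariance. -/
theorem w_up {w : (E5 F →* ℂˣ) → ℕ}
    (hw : ∀ (g : G) (φ : E5 F ≃* E5 F), (∀ e, i5 S (φ e) = g * i5 S e * g⁻¹) → ∀ μ, w (μ.comp φ.toMonoidHom) = w μ)
    {k : Fin 5} (hk : k ≠ 2) {β : Fin 5 → F} (h2 : β 2 = 1) (c : F) :
    w (mu5 (Function.update β k c)) = w (mu5 β) := by
  refine w_conj (i5_inj S) hw (ac S k (c + β k)) _ _ ?_
  set A := ac S k (c + β k) with hA
  refine ind5 ?_ ?_
  · rintro a b ⟨a', ha, ha'⟩ ⟨b', hb, hb'⟩
    refine ⟨a' * b', ?_, by rw [map_mul, map_mul, ha', hb']⟩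
    rw [map_mul, map_mul, ha, hb]
    group
  · intro l v
    refine ⟨im5 k (c + β k) l v, conj_s5 S k hk _ l v, ?_⟩
    unfold im5
    by_cases hl : l = k
    · subst hl
      rw [if_pos rfl, map_mul, mu5_s5, mu5_s5, mu5_s5, h2, one_mul, ← map_mul, ← ofAdd_add, ← map_add,
        Function.update_self]
      congr 3
      have h3 : β l + β l = 0 := CharTwo.add_self_eq_zero _
      linear_combination v * h3
    · rw [if_neg hl, mu5_s5, mu5_s5, Function.update_of_ne hl]

theorem w_all {w : (E5 F →* ℂˣ) → ℕ}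
    (hw : ∀ (g : G) (φ : E5 F ≃* E5 F), (∀ e, i5 S (φ e) = g * i5 S e * g⁻¹) → ∀ μ, w (μ.comp φ.toMonoidHom) = w μ)
    {β β' : Fin 5 → F} (h2 : β 2 = 1) (h2' : β' 2 = 1) : w (mu5 β') = w (mu5 β) := by
  have h : β' = Function.update (Function.update (Function.update (Function.update β 0 (β' 0)) 1 (β' 1)) 3 (β' 3)) 4
      (β' 4) := by
    funext k
    fin_cases k
    · rfl
    · rfl
    · exact h2'.trans h2.symm
    · rfl
    · rfl
  rw [h]
  have e1 := w_up S hw (k := 0) (by decide) h2 (β' 0)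
  have e2 := w_up S hw (k := 1) (β := Function.update β 0 (β' 0)) (by decide) h2 (β' 1)
  have e3 := w_up S hw (k := 3) (β := Function.update (Function.update β 0 (β' 0)) 1 (β' 1)) (by decide) h2 (β' 3)
  have e4 := w_up S hw (k := 4) (β := Function.update (Function.update (Function.update β 0 (β' 0)) 1 (β' 1)) 3 (β' 3))
    (by decide) h2 (β' 4)
  exact e4.trans (e3.trans (e2.trans e1))

/-- The centre. -/
def z5 (F : Type u) [Field F] : Multiplicative F →* E5 F := MonoidHom.mulSingle (fun _ => Multiplicative F) 2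

theorem z5_injective : Function.Injective (z5 F) := by
  intro a b h
  have h1 : z5 F a 2 = z5 F b 2 := congrFun h 2
  have h2 : ∀ a, z5 F a 2 = a := fun a => Pi.mulSingle_eq_same (M := fun _ => Multiplicative F) (2 : Fin 5) a
  rw [h2, h2] at h1
  exact h1

theorem card_z5 : Nat.card (z5 F).range = Fintype.card F := by
  rw [← Nat.card_congr (MonoidHom.ofInjective (z5_injective (F := F))).toEquiv, Nat.card_eq_fintype_card]
  exact Fintype.card_congr Multiplicative.toAdd

theorem card_E5 : Nat.card (E5 F) = Fintype.card F ^ 5 := by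
  rw [Nat.card_fun, Nat.card_eq_fintype_card (α := Fin 5), Fintype.card_fin, Nat.card_eq_fintype_card]
  congr 1
  exact Fintype.card_congr Multiplicative.toAdd

/-- coordinates -/
def b5 (b : Fin 4 → F) : Fin 5 → F := ![b 0, b 1, 1, b 2, b 3]

include S in
/-- **The index of a proper subgroup.** -/
theorem main [Finite G] [IsSimpleGroup G] (hq : 2 < Fintype.card F) (H : Subgroup G) (hH : H ≠ ⊤) :
    2 * Fintype.card F ^ 5 ≤ H.index := by
  classical
  let β0 : Fin 5 → F := b5 0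
  let lam : (z5 F).range →* ℂˣ := (mu5 β0).comp (z5 F).range.subtype
  have hlam : ∀ x : F, lam ⟨s5 2 x, x, rfl⟩ = ch (Multiplicative.ofAdd (T x)) := by
    intro x
    have h2 : lam ⟨s5 2 x, x, rfl⟩ = mu5 β0 (s5 2 x) := rfl
    rw [h2, mu5_s5]
    have h3 : β0 2 * x = x := one_mul x
    rw [h3]
  have hl : lam ≠ 1 := by
    intro h
    obtain ⟨x, hx⟩ := exists_T_one F
    have h1 : lam ⟨s5 2 x, x, rfl⟩ = 1 := by rw [h]; rfl
    rw [hlam, hx] at h1
    exact one_ne_zero (ch_inj (b := 0) (h1.trans (map_one ch).symm))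
  obtain ⟨w, ⟨μ0, hμ0, hw0⟩, hsum, hconj, -, htwo⟩ := summary (i5_inj S) (z5 F).range (by
    rintro _ ⟨a, rfl⟩ _ ⟨b, rfl⟩ ha hb
    refine fus S (u := Multiplicative.toAdd a) (v := Multiplicative.toAdd b) ?_ ?_
    · rintro h0
      apply ha
      have : a = 1 := h0
      rw [this, map_one]
    · rintro h0
      apply hb
      have : b = 1 := h0
      rw [this, map_one]) lam hl hH
  obtain ⟨β, rfl⟩ := mu5_surjective μ0
  have h6 : β 2 = 1 := by
    refine T_ext fun v => ch_inj ?_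
    have h1 := hμ0 ⟨s5 2 v, v, rfl⟩
    rw [hlam] at h1
    rw [one_mul]
    exact (mu5_s5 β 2 v).symm.trans h1
  set q := Fintype.card F with hq'
  have hq1 : 1 < q := Fintype.one_lt_card
  -- the size
  have hw1 : 2 * q ^ 5 ≤ w (mu5 β) := by
    obtain ⟨x, hx⟩ := exists_T_one F
    obtain ⟨r, hr⟩ : ∃ r : F, σ r + r ≠ 0 := by
      by_contra hcon
      push Not at hcon
      have h1 : ∀ r : F, σ r = r := fun r => by
        have h2 := hcon r
        rw [← CharTwo.sub_eq_add, sub_eq_zero] at h2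
        exact h2
      have h2 : ∀ r : F, r = 0 ∨ r = 1 := by
        intro r
        have h3 := S.sq r
        rw [h1, h1] at h3
        have h4 : r * (r - 1) = 0 := by linear_combination -h3
        rcases mul_eq_zero.1 h4 with h5 | h5
        · exact Or.inl h5
        · exact Or.inr (sub_eq_zero.1 h5)
      have h3 : (Finset.univ : Finset F) ⊆ {0, 1} := by
        intro r _
        rw [Finset.mem_insert, Finset.mem_singleton]
        exact h2 r
      have h4 := Finset.card_le_card h3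
      have h5 : ({0, 1} : Finset F).card ≤ 2 := Finset.card_le_two
      rw [Finset.card_univ] at h4
      omega
    have hx0 : x ≠ 0 := by
      rintro rfl
      rw [map_zero] at hx
      exact one_ne_zero hx.symm
    set z := x / (σ r + r) with hz
    have hz0 : z ≠ 0 := div_ne_zero hx0 hr
    have hsz : σ z ≠ 0 := (map_ne_zero σ).2 hz0
    set p := σ z / z with hp
    have hpp : p * σ p = z := chi_eq S hz0
    have hxx : p * σ (p * r) + p * r * σ p = x := by
      calc p * σ (p * r) + p * r * σ p = (p * σ p) * (σ r + r) := by rw [map_mul]; ring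
        _ = x := by rw [hpp, hz, div_mul_cancel₀ _ hr]
    have h1 := htwo (mu5 β) hw0 (S.e 2 p 0) (S.e 2 (p * r) 0) (x2_comm S p) (x2_comm S (p * r)) _ (x2_com S p (p * r))
      (by
        rw [hxx, mu5_s5, h6, one_mul, hx]
        intro h1
        exact one_ne_zero (ch_inj (b := 0) (h1.trans (map_one ch).symm)))
    rwa [card_E5] at h1
  -- the orbit
  let f : (Fin 4 → F) → (E5 F →* ℂˣ) := fun b => mu5 (b5 b)
  have hf : Function.Injective f := by
    intro b b' h
    have h1 := mu5_injective h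
    funext k
    fin_cases k
    · exact congrFun h1 0
    · exact congrFun h1 1
    · exact congrFun h1 3
    · exact congrFun h1 4
  have h1 := hsum (Finset.univ.image f) (by
    rintro μ hμ ⟨_, a, rfl⟩
    rw [Finset.mem_image] at hμ
    obtain ⟨p, -, rfl⟩ := hμ
    have h2 : lam ⟨z5 F a, a, rfl⟩ = mu5 β0 (s5 2 (Multiplicative.toAdd a)) := rfl
    rw [h2, mu5_s5]
    exact mu5_s5 _ 2 _)
  have h2 : ∀ μ ∈ Finset.univ.image f, w μ = w (mu5 β) := by
    intro μ hμ
    rw [Finset.mem_image] at hμ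
    obtain ⟨p, -, rfl⟩ := hμ
    exact w_all S hconj h6 rfl
  rw [Finset.sum_congr rfl h2, Finset.sum_const, smul_eq_mul, Finset.card_image_of_injective _ hf, card_z5,
    card_E5, ← hq', Finset.card_univ, Fintype.card_fun, Fintype.card_fin, ← hq'] at h1
  have h5 : q ^ 5 * (2 * q ^ 5) ≤ q ^ 5 * H.index := by
    calc q ^ 5 * (2 * q ^ 5) = q ^ 4 * (2 * q ^ 5) * q := by ring
      _ ≤ q ^ 4 * w (mu5 β) * q := Nat.mul_le_mul_right _ (Nat.mul_le_mul_left _ hw1)
      _ ≤ _ := h1
  exact Nat.le_of_mul_le_mul_left h5 (by positivity)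

end Main

/-- **The bound for `²F₄(q)`.** -/
theorem bound_2F4 {K : Type} [Field K] [Fintype K] {m : ℕ} (hm : 1 ≤ m) (hK : Fintype.card K = 2 ^ (2 * m + 1))
    (hs : IsSimpleGroup ↥(Cfsg.Lie.twistedF4 K (2 ^ m))) (L : Subgroup ↥(Cfsg.Lie.twistedF4 K (2 ^ m))) (hL : L ≠ ⊤) :
    4 * Fintype.card K ^ 10 ≤ L.index ^ 2 := by
  haveI : CharP K 2 := Cfsg.Agent.ChevalleyStructure.TwF4.Twisted.charP_two hK
  obtain ⟨φ, hφ⟩ := Cfsg.Agent.ChevalleyStructure.TwF4.TwistedFix.exists_rln hK
  have h2 : 2 < Fintype.card K := by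
    rw [hK]
    calc 2 < 2 ^ 3 := by norm_num
      _ ≤ 2 ^ (2 * m + 1) := Nat.pow_le_pow_right (by norm_num) (by omega)
  have h1 := main (Cfsg.Agent.KFacts.TwF4.Inst.full hK hφ) h2 L hL
  calc 4 * Fintype.card K ^ 10 = (2 * Fintype.card K ^ 5) ^ 2 := by ring
    _ ≤ L.index ^ 2 := Nat.pow_le_pow_left h1 2

end Cfsg.Agent.H934.HeisTwF4
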