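import Mathlib
import Cfsg.Agent.H934.RowRgd
import Cfsg.Agent.H934.HeisTwD4
import Cfsg.Agent.H35.ExcIdx
import Cfsg.Agent.ChevalleyStructure.TwD4Card
import Cfsg.Agent.Nodes.RGDTwD4
import Cfsg.Agent.S1067
import Cfsg.Agent.S1106

/-!
# The row of `³D₄(q)` (S5880)
-/

set_option autoImplicit false

namespace Cfsg.Agent.H934.RowTwD4

open CoxeterSystem Cfsg.Agent.ChevalleyStructure.CoxeterGeom Cfsg.Agent.Tits.Roots Cfsg.Agent.Tits.Core
  Cfsg.Agent.Tits.Exchange Cfsg.Agent.Nodes.Reps Cfsg.Agent.Nodes.BNOf Cfsg.Agent.Nodes.StabComb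
  Cfsg.Agent.Nodes.Bruhat Cfsg.Agent.Nodes.OppDec Cfsg.Agent.Nodes.LeviDec Cfsg.Agent.Nodes.NormalForm
open Cfsg.Agent.KFacts.RgdOpp Cfsg.Agent.KFacts.RgdAut Cfsg.Agent.KFacts.RgdDiag Cfsg.Agent.KFacts.RgdRigid
  Cfsg.Agent.H430.CfBase
open Cfsg.Lie Cfsg.Agent.ChevalleyStructure Cfsg.Agent.Nodes.RGDTwD4 Cfsg.Agent.H35.ExcIdx
open Cfsg.Agent.Nodes.RGDTwGen Cfsg.Agent.Nodes.RGDChev Cfsg.Agent.Nodes.RGDFold

universe u

variable {K : Type u} [Field K] [Fintype K] {q : ℕ} {φ : K →+* K}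

theorem card_X (hφ : ∀ x, φ x = x ^ q) (hq : 1 < q) (hK : Fintype.card K = q ^ 3) (i : Fin 2) :
    Nat.card ↥(X φ q (sr i)) = if i = 0 then q else q ^ 3 := by
  have hle := D4Fixed.twisted_le_fix hK hφ
  have key : ∀ (S : Subgroup (GL chevD4.Idx K)), R chevD4 hp K J (D4Fixed.sig φ) (sr i) = S ⊓ D4Fixed.fix φ →
      Nat.card ↥(X φ q (sr i)) = Nat.card {x : GL chevD4.Idx K // x ∈ (S : Set (GL chevD4.Idx K)) ∧
        x ∈ twistedD4 K q} := by
    intro S hS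
    unfold X
    rw [hS]
    refine Nat.card_congr
      { toFun := fun x => ⟨x.1.1, (Subgroup.mem_inf.1 (Subgroup.mem_subgroupOf.1 x.2)).1, x.1.2⟩
        invFun := fun x => ⟨⟨x.1, x.2.2⟩, Subgroup.mem_subgroupOf.2 (Subgroup.mem_inf.2 ⟨x.2.1, hle x.2.2⟩)⟩
        left_inv := fun x => rfl
        right_inv := fun x => rfl }
  fin_cases i
  · exact (key _ (R0 φ)).trans (TwD4Card.card_X0 hq hK hφ hle)
  · exact (key _ (R1 φ)).trans (TwD4Card.card_X1 hK hφ hle)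

theorem path1 : PathOK CoxeterMatrix.G₂ [1] [1] [] 0 := by constructor <;> decide +kernel

theorem arith {q i : ℕ} (hq : 2 ≤ q) (h : i * (1 + q ^ 3) * ((q - 1) ^ 2 * (q ^ 2 + q + 1)) =
    (q ^ 2 - 1) * (q ^ 6 - 1) * (q ^ 8 + q ^ 4 + 1)) : i ≤ q ^ 10 := by
  have h1 : i = (q + 1) * (q ^ 8 + q ^ 4 + 1) := by
    obtain ⟨x, rfl⟩ : ∃ x, q = x + 1 := ⟨q - 1, by omega⟩
    have e1 : (x + 1) ^ 2 - 1 = x * (x + 2) := by
      apply Nat.sub_eq_of_eq_add; ring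
    have e2 : (x + 1) ^ 6 - 1 = x * ((x + 1) ^ 2 + (x + 1) + 1) * (1 + (x + 1) ^ 3) := by
      apply Nat.sub_eq_of_eq_add; ring
    rw [e1, e2, Nat.add_sub_cancel] at h
    have hpos : 0 < (1 + (x + 1) ^ 3) * (x ^ 2 * ((x + 1) ^ 2 + (x + 1) + 1)) := by
      have : 0 < x := by omega
      positivity
    apply Nat.eq_of_mul_eq_mul_right hpos
    calc i * ((1 + (x + 1) ^ 3) * (x ^ 2 * ((x + 1) ^ 2 + (x + 1) + 1)))
        = i * (1 + (x + 1) ^ 3) * (x ^ 2 * ((x + 1) ^ 2 + (x + 1) + 1)) := by ring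
      _ = _ := by rw [h]; ring
  rw [h1]
  have a1 : 2 * q ^ 9 ≤ q ^ 10 := by rw [pow_succ' q 9]; exact Nat.mul_le_mul_right _ hq
  have a2 : 2 * q ^ 8 ≤ q ^ 9 := by rw [pow_succ' q 8]; exact Nat.mul_le_mul_right _ hq
  have a3 : 2 * q ^ 7 ≤ q ^ 8 := by rw [pow_succ' q 7]; exact Nat.mul_le_mul_right _ hq
  have a4 : 2 * q ^ 6 ≤ q ^ 7 := by rw [pow_succ' q 6]; exact Nat.mul_le_mul_right _ hq
  have a5 : 2 * q ^ 5 ≤ q ^ 6 := by rw [pow_succ' q 5]; exact Nat.mul_le_mul_right _ hq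
  have a6 : q ^ 4 ≤ q ^ 5 := Nat.pow_le_pow_right (by omega) (by norm_num)
  have a7 : q ^ 1 ≤ q ^ 5 := Nat.pow_le_pow_right (by omega) (by norm_num)
  have a8 : 1 ≤ q ^ 5 := Nat.one_le_pow _ _ (by omega)
  have a9 : (q + 1) * (q ^ 8 + q ^ 4 + 1) = q ^ 9 + q ^ 8 + q ^ 5 + q ^ 4 + q ^ 1 + 1 := by ring
  omega

/-- **The row of `³D₄(q)`.** -/
theorem row {K : Type u} [Field K] [Fintype K] {q : ℕ} (hq : IsPrimePow q) (hK : Fintype.card K = q ^ 3)
    (hs : IsSimpleGroup ↥(twistedD4 K q)) : Row ↥(twistedD4 K q) := by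
  obtain ⟨φ, hφ⟩ := D4Fixed.exists_frob hq hK
  have : Finite (GL chevD4.Idx K) := inferInstance
  obtain ⟨p, hcp⟩ := CharP.exists K
  have hp' : Fact p.Prime := ⟨CharP.char_is_prime K p⟩
  have h2 : 2 ≤ q := hq.two_le
  obtain ⟨r, f, hr, hf, hrf⟩ := hq
  have hr' : r.Prime := hr.nat_prime
  have hpr : p = r := by
    obtain ⟨n, hpp, hn⟩ := FiniteField.card K p
    have h3 : p ∣ r := by
      have h4 : p ∣ Fintype.card K := by rw [hn]; exact dvd_pow_self p n.pos.ne'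
      rw [hK, ← hrf, ← pow_mul] at h4
      exact hpp.dvd_of_dvd_pow h4
    exact (Nat.prime_dvd_prime_iff_eq hpp hr').1 h3
  subst hpr
  have hq' : IsPrimePow q := ⟨p, f, hr, hf, hrf⟩
  have hfin : Finite CoxeterMatrix.G₂.Group := Nodes.RGDFold.finite_W (hp := hp)
    CoxeterMatrix.G₂.toCoxeterSystem isCartan foldData
  have hR := rgd CoxeterMatrix.G₂.toCoxeterSystem hK hφ p
  have hG1 : Nodes.RGDLib.G1 CoxeterMatrix.G₂.toCoxeterSystem isCartan (X φ q) = ⊤ := G1_eq_top _ hK hφ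
  have hGG : GG CoxeterMatrix.G₂.toCoxeterSystem isCartan (T K q) (X φ q) = ⊤ := by
    rw [eq_top_iff, ← hG1]
    exact le_sup_right
  have hc := card_X hφ (by omega) hK
  have hN := card_step hR path1 (y := q ^ 3) (fun i hi => by
    rw [List.mem_singleton] at hi
    rw [hc, hi]
    rfl) (card_nil hR)
  have hT : 1 * Nat.card ↥(T K q) = (q - 1) ^ 2 * (q ^ 2 + q + 1) := by
    rw [one_mul, ← Cfsg.Agent.S1106.result hq' hK]
    exact Nat.card_congr (Subgroup.subgroupOfEquivOfLe inf_le_right).toEquiv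
  have hS : 1 * Nat.card ↥(twistedD4 K q) = p ^ (f * 12) * ((q ^ 2 - 1) * (q ^ 6 - 1) * (q ^ 8 + q ^ 4 + 1)) := by
    rw [one_mul, Cfsg.Agent.S1067.result hq' hK, pow_mul, hrf]
    ring
  have hpq : p ∣ q := by rw [← hrf]; exact dvd_pow_self p hf.ne'
  have hsub : ∀ k, k ≠ 0 → ¬ p ∣ q ^ k - 1 := by
    intro k hk h3
    have h4 : p ∣ q ^ k := dvd_pow hpq hk
    have h5 : 1 ≤ q ^ k := Nat.one_le_pow _ _ (by omega)
    have h6 := Nat.dvd_sub h4 h3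
    rw [Nat.sub_sub_self h5] at h6
    exact hr'.one_lt.ne' (Nat.dvd_one.1 h6)
  have hP : ¬ p ∣ (q ^ 2 - 1) * (q ^ 6 - 1) * (q ^ 8 + q ^ 4 + 1) := by
    rw [hr'.dvd_mul, hr'.dvd_mul]
    rintro ((h3 | h3) | h3)
    · exact hsub 2 (by norm_num) h3
    · exact hsub 6 (by norm_num) h3
    · have h4 : p ∣ q ^ 8 + q ^ 4 := dvd_add (dvd_pow hpq (by norm_num)) (dvd_pow hpq (by norm_num))
      exact hr'.one_lt.ne' (Nat.dvd_one.1 ((Nat.dvd_add_right h4).1 h3))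
  have h6 := index_eq hR hGG hN (d := 1) (fun h => hr'.one_lt.ne' (Nat.dvd_one.1 h)) hT hS hP
  have hFA : FA [(1 : Fin 2)].length (q ^ 3) * 1 = 1 + q ^ 3 := by simp [FA, Finset.sum_range_succ]
  rw [hFA] at h6
  have hidx := arith h2 h6
  refine RowRgd.row_of hR hGG (J := {j | j ∈ ([1] : List (Fin 2))}) (i := 0) (by simp) (fun β σ D i => ?_)
    fun L hL => hidx.trans (HeisTwD4.bound_3D4 hq' hK hs L hL)
  have h7 := Cfsg.Agent.KFacts.RgdNodes.Diag.card_eq D i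
  rw [hc, hc] at h7
  have h8 : q ≠ q ^ 3 := by
    have : q ^ 1 < q ^ 3 := Nat.pow_lt_pow_right (by omega) (by norm_num)
    rw [pow_one] at this
    exact this.ne
  have h9 : σ i = 0 ↔ i = 0 := by
    by_cases h0 : i = 0
    · rw [if_pos h0] at h7
      constructor
      · intro _; exact h0
      · intro _
        by_contra h10
        rw [if_neg h10] at h7
        exact h8 h7.symm
    · rw [if_neg h0] at h7
      constructor
      · intro h10
        rw [if_pos h10] at h7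
        exact absurd h7 h8
      · intro h10
        exact absurd h10 h0
  have h10 : ∀ j : Fin 2, j ∈ ({j | j ∈ ([1] : List (Fin 2))} : Set (Fin 2)) ↔ ¬ j = 0 := by
    intro j
    show j ∈ [1] ↔ _
    revert j
    decide
  rw [h10, h10, h9]

/-- The row for the predicate. -/
theorem row_3D4 {S : Type u} [Group S] [Finite S] [IsSimpleGroup S] (h : Iso3D4 S) : Row S := by
  obtain ⟨K, _, _, q, hq, hK, ⟨e⟩⟩ := h
  exact Row.of_equiv e.symm (row hq hK (e.isSimpleGroup_congr.1 inferInstance))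

end Cfsg.Agent.H934.RowTwD4
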