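import Mathlib
import Cfsg.Agent.H35.ExcIdx

/-!
# Orders of parabolic subgroups: one step of the parabolic chain along the orbit of a fundamental weight

`card_orbit`: `|P_J| = (∑_ω ∏_{i ∈ ω} |X_i|) |P_{J - k}|`, `ω` running over the minimal coset representatives, given as
words (checked by `decide`).
-/

set_option autoImplicit false

namespace Cfsg.Agent.H934.RowOrb

open CoxeterSystem Cfsg.Agent.ChevalleyStructure.CoxeterGeom Cfsg.Agent.Tits.Roots Cfsg.Agent.Tits.Core
  Cfsg.Agent.Tits.Exchange Cfsg.Agent.Nodes.Reps Cfsg.Agent.Nodes.BNOf Cfsg.Agent.Nodes.StabComb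
  Cfsg.Agent.Nodes.Bruhat Cfsg.Agent.Nodes.OppDec Cfsg.Agent.Nodes.LeviDec Cfsg.Agent.Nodes.NormalForm
open Cfsg.Agent.ChevalleyStructure.WeylAbstract Cfsg.Agent.H35.Poin Cfsg.Agent.H35.ExcIdx

section Defs

variable {I : Type*} [DecidableEq I]

/-- a reflection on weights -/
def actA (A : I → I → ℤ) (i : I) (m : I → ℤ) : I → ℤ := fun k => m k - m i * A i k

/-- the weight of a word -/
def wtA (A : I → I → ℤ) (k : I) : List I → (I → ℤ)
  | [] => Pi.single k 1
  | j :: ω => actA A j (wtA A k ω)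

/-- ascending words -/
def goodA (A : I → I → ℤ) (k : I) : List I → Bool
  | [] => true
  | j :: ω => decide (0 < wtA A k ω j) && goodA A k ω

/-- The list of words is the orbit of the fundamental weight. -/
structure OrbOK (A : I → I → ℤ) (JL : List I) (k : I) (L : List (List I)) : Prop where
  nil : [] ∈ L
  good : ∀ ω ∈ L, goodA A k ω = true
  mem : ∀ ω ∈ L, ∀ j ∈ ω, j ∈ JL
  closed : ∀ ω ∈ L, ∀ j ∈ JL, ∃ ω' ∈ L, actA A j (wtA A k ω) = wtA A k ω'
  nodup : (L.map (wtA A k)).Nodup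

end Defs

variable {I W Y : Type*} [Fintype I] [DecidableEq I] [Group W] [Group Y] {M : CoxeterMatrix I}
  {cs : CoxeterSystem M W} {A : I → I → ℤ} {h : IsCartan M A} {p : ℕ} {T : Subgroup Y} {n : I → Y}
  {X : (I → ℤ) → Subgroup Y}

theorem reach_wt {JL : List I} {k : I} : ∀ {ω : List I}, (∀ j ∈ ω, j ∈ JL) →
    (rdata cs h).Reach {j | j ∈ JL} k (wtA A k ω)
  | [], _ => RData.Reach.base
  | j :: ω, hm => RData.Reach.step j (wtA A k ω) (hm j List.mem_cons_self)
      (reach_wt fun i hi => hm i (List.mem_cons_of_mem _ hi))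

theorem qw_wt [Fintype (Rt cs h)] {x : Rt cs h → ℕ} (hx : ∀ i r, x ((rdata cs h).refl i r) = x r) {f : I → ℕ}
    (hf : ∀ i, x ((rdata cs h).simple i) = f i) {k : I} : ∀ {ω : List I}, goodA A k ω = true →
    (rdata cs h).Qw x (wtA A k ω) = (ω.map f).prod
  | [], _ => by
    rw [List.map_nil, List.prod_nil]
    exact Qw_single _ x k
  | j :: ω, hg => by
    unfold goodA at hg
    rw [Bool.and_eq_true, decide_eq_true_iff] at hg
    rw [List.map_cons, List.prod_cons, ← qw_wt hx hf hg.2, ← hf j]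
    exact Qw_act _ x hx j (wtA A k ω) hg.1

/-- **One step of the parabolic chain.** -/
theorem card_orbit [Finite W] [Finite Y] (R : RGD cs h p T n X) {JL : List I} {k : I} {L : List (List I)}
    (hO : OrbOK A JL k L) {f : I → ℕ} (hf : ∀ i, Nat.card (X (sr i)) = f i) {JL' : List I}
    (hJ' : ∀ j, j ∈ JL' ↔ j ∈ JL ∧ j ≠ k) {N : ℕ}
    (hN : Nat.card ↥(PJ cs h T X {j | j ∈ JL'}) = N * Nat.card ↥(RGD.B cs h T X)) :
    Nat.card ↥(PJ cs h T X {j | j ∈ JL}) =
      (L.map fun ω => (ω.map f).prod).sum * N * Nat.card ↥(RGD.B cs h T X) := by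
  classical
  have : Finite (Rt cs h) := finite_rt cs h
  have : Fintype (Rt cs h) := Fintype.ofFinite _
  have hx : ∀ i r, Nat.card (X ((rdata cs h).refl i r).1) = Nat.card (X r.1) := fun i r =>
    Cfsg.Agent.Nodes.CardSup.card_X_rep R _ r.2
  have hset : ({j | j ∈ JL} \ {k} : Set I) = {j | j ∈ JL'} := by
    ext j
    exact (hJ' j).symm
  rw [mul_assoc, ← hN, card_PJ_sum R {j | j ∈ JL}, card_PJ_sum R {j | j ∈ JL'},
    RData.sum_step (rdata cs h) (fun r => Nat.card (X r.1)) hx (fun r => card_X_neg R r.2)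
      (J := {j | j ∈ JL}) (k := k) (L.map (wtA A k)).toFinset ?_ ?_ ?_, hset]
  · have h1 : ∑ m ∈ (L.map (wtA A k)).toFinset, (rdata cs h).Qw (fun r => Nat.card (X r.1)) m =
        (L.map fun ω => (ω.map f).prod).sum := by
      rw [List.sum_toFinset _ hO.nodup, List.map_map]
      congr 1
      refine List.map_congr_left fun ω hω => ?_
      exact qw_wt (x := fun r => Nat.card (X r.1)) hx hf (hO.good ω hω)
    rw [h1]
    ring
  · rw [List.mem_toFinset, List.mem_map]
    exact ⟨[], hO.nil, rfl⟩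
  · intro m hm j hj
    rw [List.mem_toFinset, List.mem_map] at hm ⊢
    obtain ⟨ω, hω, rfl⟩ := hm
    obtain ⟨ω', hω', h1⟩ := hO.closed ω hω j hj
    exact ⟨ω', hω', h1.symm⟩
  · intro m hm
    rw [List.mem_toFinset, List.mem_map] at hm
    obtain ⟨ω, hω, rfl⟩ := hm
    exact reach_wt (hO.mem ω hω)

end Cfsg.Agent.H934.RowOrb
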