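import Mathlib
import Cfsg.Agent.H934.HeisChev

/-!
# The special group of the highest root in E₇(q)

`|E₇(q) : H| ≥ 2 q^17` for every proper subgroup `H` (`q ^ 33` is the order of the special group).
-/

set_option autoImplicit false

namespace Cfsg.Agent.H934.HeisE7

open Cfsg.Lie Cfsg.Agent.ChevalleyStructure.Elts Cfsg.Agent.H934.HeisRoot Cfsg.Agent.H934.HeisChev

/-- list look-up -/
def at' {α : Type} (d : α) : List α → ℕ → α
  | [], _ => d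
  | a :: _, 0 => a
  | _ :: l, n + 1 => at' d l n

/-- decode: 0 is `none` -/
def dec (a : ℕ) : Option (Fin 32) := if h : 1 ≤ a ∧ a ≤ 32 then some ⟨a - 1, by omega⟩ else none

/-- byte `i` of `N` -/
def byte (N i : ℕ) : ℕ := (N >>> (8 * i)) % 256

/-- sign from bit `i` of `N` -/
def sg (N i : ℕ) : ℤ := if N.testBit i then -1 else 1

/-- index -/
def toF (a : ℕ) : Fin 12 := ⟨a % 12, Nat.mod_lt _ (by norm_num)⟩

/-- The tables. -/
def tab : HTab 32 12 where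
  S := fun i => byte 0x7c7b7a797877767574737271706f6e6d6c6b6a696867666564636261605f5e5d i
  th := 125
  B := fun i => byte 0x3e3d3b38342f3f404245494e i
  opp := fun i => ⟨31 - i, by omega⟩
  e := fun i => sg 0x56ad4a95 i
  next := fun b i => dec (byte (at' 0 [0x1e1d1c1b000000000000000000000000000000000a0908070000, 0x20000000000000000000000000000016151413121100000000000000000002, 0x1f000000000000001918170000000000000000000d0c0b00000000000300, 0x1e0000001a00000000001514000000000f0e0000000008000000040000, 0x1d000000190000160000001200100000000c00000900000005000000, 0x1c0000001800001500130000000f000d00000a0000000600000000, 0x1a1918170000000000000000000000000000000006050403000000000000, 0x1f000000000000000000100f0e0d0c0b00000000000000000000000000000100, 0x1e00000000001615140000000000000000000a090800000000000000020000, 0x1d00000019000000001312000000000d0c00000000000700000003000000, 0x1c0000001800001500000011000f0000000b0000080000000400000000,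 0x1b0000001700001400120000000e000c000009000000050000000000] b) i)
  cc := fun b i => sg (at' 0 [0x3c0003c, 0x4000fc01, 0x20380382, 0x11061844, 0x8914488, 0x44a2910, 0x3c0003c0, 0x803f0002, 0x41c01c04, 0x22186088, 0x11228910, 0x8945220] b) i
  ng := fun b => ⟨((b : ℕ) + 6) % 12, Nat.mod_lt _ (by norm_num)⟩
  p := 0

/-- paths to the highest weight -/
def upP : List (List ℕ) := [[1, 2, 0, 3, 2, 1, 4, 3, 2, 0, 5, 4, 3, 2, 1], [2, 0, 3, 2, 1, 4, 3, 2, 0, 5, 4, 3, 2, 1], [0, 3, 2, 1, 4, 3, 2, 0, 5, 4, 3, 2, 1], [0, 2, 1, 4, 3, 2, 0, 5, 4, 3, 2, 1], [0, 2, 1, 3, 2, 0, 5, 4, 3, 2, 1], [0, 2, 1, 3, 2, 0, 4, 3, 2, 1], [3, 2, 1, 4, 3, 2, 0, 5, 4, 3, 2, 1], [2, 1, 4, 3, 2, 0, 5, 4, 3, 2, 1], [2, 1, 3, 2, 0, 5, 4, 3, 2, 1], [2, 1, 3, 2, 0, 4, 3, 2, 1], [1, 4, 3, 2, 0, 5, 4, 3, 2, 1], [1, 3, 2, 0, 5, 4, 3, 2, 1], [1, 3, 2, 0, 4, 3, 2, 1], [1, 2, 0, 5, 4, 3, 2, 1], [1, 2, 0, 4, 3, 2, 1], [1,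 2, 0, 3, 2, 1], [4, 3, 2, 0, 5, 4, 3, 2, 1], [3, 2, 0, 5, 4, 3, 2, 1], [3, 2, 0, 4, 3, 2, 1], [2, 0, 5, 4, 3, 2, 1], [2, 0, 4, 3, 2, 1], [2, 0, 3, 2, 1], [0, 5, 4, 3, 2, 1], [0, 4, 3, 2, 1], [0, 3, 2, 1], [0, 2, 1], [5, 4, 3, 2, 1], [4, 3, 2, 1], [3, 2, 1], [2, 1], [1], []]

/-- paths to the lowest weight -/
def dnP : List (List ℕ) := [[], [7], [8, 7], [9, 8, 7], [10, 9, 8, 7], [11, 10, 9, 8, 7], [6, 8, 7], [6, 9, 8, 7], [6, 10, 9, 8, 7], [6, 11, 10, 9, 8, 7], [8, 6, 9, 8, 7], [8, 6, 10, 9, 8, 7], [8, 6, 11, 10, 9, 8, 7], [9, 8, 6, 10, 9, 8, 7], [9, 8, 6, 11, 10, 9, 8, 7], [10, 9, 8, 6, 11, 10, 9, 8, 7], [7, 8, 6, 9, 8, 7], [7, 8, 6, 10, 9, 8, 7], [7, 8, 6, 11, 10, 9, 8, 7], [7, 9, 8, 6, 10, 9, 8, 7], [7, 9, 8, 6, 11, 10, 9, 8, 7], [7, 10, 9, 8, 6, 11, 10, 9, 8, 7], [8, 7, 9, 8, 6, 10, 9, 8, 7], [8, 7, 9, 8, 6, 11, 10, 9, 8, 7], [8, 7, 10, 9, 8, 6, 11, 10, 9, 8, 7], [9, 8, 7,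 10, 9, 8, 6, 11, 10, 9, 8, 7], [6, 8, 7, 9, 8, 6, 10, 9, 8, 7], [6, 8, 7, 9, 8, 6, 11, 10, 9, 8, 7], [6, 8, 7, 10, 9, 8, 6, 11, 10, 9, 8, 7], [6, 9, 8, 7, 10, 9, 8, 6, 11, 10, 9, 8, 7], [8, 6, 9, 8, 7, 10, 9, 8, 6, 11, 10, 9, 8, 7], [7, 8, 6, 9, 8, 7, 10, 9, 8, 6, 11, 10, 9, 8, 7]]

/-- paths from the lowest weight -/
def frP : List (List ℕ) := [[], [1], [1, 2], [1, 2, 3], [1, 2, 3, 4], [1, 2, 3, 4, 5], [1, 2, 0], [1, 2, 3, 0], [1, 2, 3, 4, 0], [1, 2, 3, 4, 5, 0], [1, 2, 3, 0, 2], [1, 2, 3, 4, 0, 2], [1, 2, 3, 4, 5, 0, 2], [1, 2, 3, 4, 0, 2, 3], [1, 2, 3, 4, 5, 0, 2, 3], [1, 2, 3, 4, 5, 0, 2, 3, 4], [1, 2, 3, 0, 2, 1], [1, 2, 3, 4, 0, 2, 1], [1, 2, 3, 4, 5, 0, 2, 1], [1, 2, 3, 4, 0, 2, 3, 1], [1, 2, 3, 4, 5, 0, 2, 3, 1], [1, 2, 3, 4, 5, 0, 2, 3, 4, 1], [1, 2, 3, 4, 0, 2, 3, 1, 2], [1, 2, 3, 4, 5, 0, 2, 3, 1, 2], [1, 2, 3, 4, 5, 0, 2, 3, 4, 1, 2], [1, 2, 3, 4, 5, 0, 2, 3, 4, 1,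 2, 3], [1, 2, 3, 4, 0, 2, 3, 1, 2, 0], [1, 2, 3, 4, 5, 0, 2, 3, 1, 2, 0], [1, 2, 3, 4, 5, 0, 2, 3, 4, 1, 2, 0], [1, 2, 3, 4, 5, 0, 2, 3, 4, 1, 2, 3, 0], [1, 2, 3, 4, 5, 0, 2, 3, 4, 1, 2, 3, 0, 2], [1, 2, 3, 4, 5, 0, 2, 3, 4, 1, 2, 3, 0, 2, 1]]

/-- the isolating path -/
def isoP (i : Fin 32) : List (Fin 12) := (at' [] upP i ++ at' [] dnP 31).map toF

theorem isoP_run : ∀ i, isoP i ≠ [] ∧ run tab.next (isoP i) i = some 0 ∧
    ∀ l, l ≠ i → run tab.next (isoP i) l = none := by decide +kernel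

theorem dnP_run : ∀ i : Fin 32, run tab.next ((at' [] dnP i).map toF) i = some 0 := by decide +kernel

theorem frP_run : ∀ i : Fin 32, run tab.next ((at' [] frP i).map toF) 0 = some i := by decide +kernel

theorem S_ne : ∀ i j, i ≠ j → tab.S i ≠ tab.S j ∧ tab.S i ≠ chevE7.neg (tab.S j) ∧
    chevE7.commTerms (tab.S j) (tab.S i) = if j = tab.opp i then [(tab.th, tab.e i, 1, 1)] else [] := by
  decide +kernel

theorem tab_ok : tab.Ok chevE7 where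
  S_lt := by decide +kernel
  th_lt := by decide +kernel
  B_lt := by decide +kernel
  th_ne := by decide +kernel
  th_ne' := by decide +kernel
  S_ne := S_ne
  opp_ne := by decide +kernel
  opp_opp := by decide +kernel
  e_sq := by decide +kernel
  B_ne := by decide +kernel
  c_sq := by decide +kernel
  B_comm := by decide +kernel
  ng_spec := by decide +kernel
  p_lt := by decide +kernel
  p_th := by decide +kernel
  iso := fun i => ⟨isoP i, 0, isoP_run i⟩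
  conn := fun i j => ⟨_, run_append (dnP_run i) (frP_run j)⟩

theorem hD : InList chevE7 := by simp [InList]

universe u

/-- The index bound. -/
theorem sq_le {F : Type u} [Field F] [Fintype F] (hs : IsSimpleGroup ↥(chevE7.group F))
    (H : Subgroup ↥(chevE7.group F)) (hH : H ≠ ⊤) : 4 * Fintype.card F ^ 34 ≤ H.index ^ 2 := by
  have : Finite (GL chevE7.Idx F) := inferInstance
  have hq : 2 ≤ Fintype.card F := Fintype.one_lt_card
  rcases bound hD tab tab_ok (by norm_num) (MonoidHom.id ↥(chevE7.group F)) Function.injective_id hH 2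
    (Or.inl rfl) with h | h
  · have h1 := Nat.pow_le_pow_left h 2
    refine le_trans ?_ h1
    rw [← pow_mul]
    calc 4 * Fintype.card F ^ 34 ≤ Fintype.card F ^ 2 * Fintype.card F ^ 34 := by
          apply Nat.mul_le_mul_right
          nlinarith
      _ = Fintype.card F ^ 36 := by ring
      _ ≤ _ := Nat.pow_le_pow_right (by omega) (by norm_num)
  · exact h

theorem two_mul_le {F : Type u} [Field F] [Fintype F] (hs : IsSimpleGroup ↥(chevE7.group F))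
    (H : Subgroup ↥(chevE7.group F)) (hH : H ≠ ⊤) : 2 * Fintype.card F ^ 17 ≤ H.index := by
  have h := sq_le hs H hH
  have h1 : (2 * Fintype.card F ^ 17) ^ 2 ≤ H.index ^ 2 := by
    calc (2 * Fintype.card F ^ 17) ^ 2 = 4 * Fintype.card F ^ 34 := by ring
      _ ≤ _ := h
  exact (Nat.pow_le_pow_iff_left (by norm_num)).1 h1

end Cfsg.Agent.H934.HeisE7
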