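import Mathlib
import Cfsg.Agent.H934.HeisTwF4
import Cfsg.Agent.H392.TwFFour.Card
import Cfsg.Agent.KFacts.TwF4.AutNorm
import Cfsg.Agent.S1068
import Cfsg.Agent.H430.CfBase

/-!
# The row of `²F₄(q)`, `q ≥ 8` (S5880)

The class of `N(Z_4)` is invariant under all automorphisms.
-/

set_option autoImplicit false

namespace Cfsg.Agent.H934.RowTwF4

open Cfsg.Agent.KFacts.TwF4 Cfsg.Agent.H392.TwFFour Cfsg.Agent.H430.CfBase Cfsg.Lie

universe u

section Inv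

variable {F : Type*} [Field F] [Finite F] {σ : F →+* F} {G : Type u} [Group G] (S : Full σ G)

/-- The class of `N(Z_4)` is invariant. -/
theorem inv_P [Finite G] (hF : ∃ c : Fˣ, c ≠ 1) (hR : S.R.p = 2) (α : MulAut G) :
    ∃ s : G, (P S).map α.toMonoidHom = (P S).map (MulAut.conj s).toMonoidHom := by
  obtain ⟨k, τ, -, hk⟩ := AutNorm.aut_form S hF hR α
  have hτ : Function.Surjective τ := Finite.injective_iff_surjective.1 τ.injective
  have h1 : (S.Zc 2).map α.toMonoidHom = (S.Zc 2).map (MulAut.conj k).toMonoidHom := by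
    ext x
    constructor
    · rintro ⟨_, ⟨u, rfl⟩, rfl⟩
      refine ⟨S.e 2 0 (τ u), ⟨_, rfl⟩, ?_⟩
      show k * S.e 2 0 (τ u) * k⁻¹ = α (S.e 2 0 u)
      rw [hk, map_zero]
    · rintro ⟨_, ⟨u, rfl⟩, rfl⟩
      obtain ⟨v, rfl⟩ := hτ u
      refine ⟨S.e 2 0 v, ⟨v, rfl⟩, ?_⟩
      show α (S.e 2 0 v) = k * S.e 2 0 (τ v) * k⁻¹
      rw [hk, map_zero]
  refine ⟨k, ?_⟩
  unfold P
  rw [normalizer_map, normalizer_map, h1]

end Inv

theorem arith {q i : ℕ} (hq : 2 ≤ q) (h : i * (q ^ 12 * (q - 1) ^ 2 * (q ^ 2 + 1)) =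
    q ^ 12 * (q - 1) * (q ^ 3 + 1) * (q ^ 4 - 1) * (q ^ 6 + 1)) : i = (q ^ 3 + 1) * (q + 1) * (q ^ 6 + 1) := by
  obtain ⟨x, rfl⟩ : ∃ x, q = x + 1 := ⟨q - 1, by omega⟩
  have e1 : (x + 1) ^ 4 - 1 = x * (x + 2) * ((x + 1) ^ 2 + 1) := by
    apply Nat.sub_eq_of_eq_add; ring
  rw [e1, Nat.add_sub_cancel] at h
  have hx : 0 < x := by omega
  have hpos : 0 < (x + 1) ^ 12 * x ^ 2 * ((x + 1) ^ 2 + 1) := by positivity
  apply Nat.eq_of_mul_eq_mul_right hpos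
  rw [h]
  ring

theorem arith2 {q : ℕ} (hq : 2 ≤ q) : (q ^ 3 + 1) * (q + 1) * (q ^ 6 + 1) ≤ 4 * q ^ 10 := by
  have h1 : (q ^ 3 + 1) * (q + 1) ≤ 2 * q ^ 4 := by
    have a1 : 2 * q ^ 3 ≤ q ^ 4 := by rw [pow_succ' q 3]; exact Nat.mul_le_mul_right _ hq
    have a2 : 2 * q ^ 2 ≤ q ^ 3 := by rw [pow_succ' q 2]; exact Nat.mul_le_mul_right _ hq
    have a3 : 2 * q ^ 1 ≤ q ^ 2 := by rw [pow_succ' q 1]; exact Nat.mul_le_mul_right _ hq
    have a4 : (q ^ 3 + 1) * (q + 1) = q ^ 4 + q ^ 3 + q ^ 1 + 1 := by ring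
    have a5 : 1 ≤ q ^ 1 := by rw [pow_one]; omega
    omega
  have h2 : q ^ 6 + 1 ≤ 2 * q ^ 6 := by
    have : 1 ≤ q ^ 6 := Nat.one_le_pow _ _ (by omega)
    omega
  calc (q ^ 3 + 1) * (q + 1) * (q ^ 6 + 1) ≤ 2 * q ^ 4 * (2 * q ^ 6) := Nat.mul_le_mul h1 h2
    _ = _ := by ring

/-- **The row of `²F₄(q)`.** -/
theorem row {K : Type} [Field K] [Fintype K] {m : ℕ} (hm : 1 ≤ m) (hK : Fintype.card K = 2 ^ (2 * m + 1))
    (hs : IsSimpleGroup ↥(twistedF4 K (2 ^ m))) : Row ↥(twistedF4 K (2 ^ m)) := by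
  haveI : CharP K 2 := Cfsg.Agent.ChevalleyStructure.TwF4.Twisted.charP_two hK
  obtain ⟨φ, hφ⟩ := Cfsg.Agent.ChevalleyStructure.TwF4.TwistedFix.exists_rln hK
  have hfin : Finite (GL chevF4.Idx K) := inferInstance
  have h2 : 2 < Fintype.card K := by
    rw [hK]
    calc 2 < 2 ^ 3 := by norm_num
      _ ≤ 2 ^ (2 * m + 1) := Nat.pow_le_pow_right (by norm_num) (by omega)
  have hF : ∃ c : Kˣ, c ≠ 1 := by
    classical
    by_contra hcon
    push Not at hcon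
    have h3 : Fintype.card Kˣ ≤ 1 := Fintype.card_le_one_iff.2 fun a b => (hcon a).trans (hcon b).symm
    rw [Fintype.card_units] at h3
    omega
  let S := Cfsg.Agent.KFacts.TwF4.Inst.full hK hφ
  have h3 : (P S).index = (Fintype.card K ^ 3 + 1) * (Fintype.card K + 1) * (Fintype.card K ^ 6 + 1) := by
    refine arith h2.le ?_
    have h4 := (P S).index_mul_card
    rw [card_P S, Cfsg.Agent.S1068.result hK, ← hK, Nat.card_eq_fintype_card] at h4
    exact h4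
  refine Row.of_inv (P S) ?_ (inv_P S hF rfl) fun L hL => ?_
  · intro h4
    rw [h4, Subgroup.index_top] at h3
    have h5 : 1 < (Fintype.card K ^ 3 + 1) * (Fintype.card K + 1) * (Fintype.card K ^ 6 + 1) := by
      have a1 : 1 ≤ Fintype.card K ^ 3 + 1 := by omega
      have a2 : 1 ≤ Fintype.card K ^ 6 + 1 := by omega
      calc 1 < Fintype.card K + 1 := by omega
        _ = 1 * (Fintype.card K + 1) * 1 := by ring
        _ ≤ _ := Nat.mul_le_mul (Nat.mul_le_mul_right _ a1) a2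
    omega
  · rw [h3]
    exact (arith2 h2.le).trans (HeisTwF4.bound_2F4 hm hK hs L hL)

/-- The row for the predicate. -/
theorem row_2F4 {S : Type u} [Group S] [Finite S] [IsSimpleGroup S] (h : Iso2F4 S) : Row S := by
  obtain ⟨K, _, _, m, hm, hK, ⟨e⟩⟩ := h
  exact Row.of_equiv e.symm (row hm hK (e.isSimpleGroup_congr.1 inferInstance))

end Cfsg.Agent.H934.RowTwF4
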